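import Cfsg.Agent.H643.Sd.Def
import Mathlib.GroupTheory.Sylow
import Mathlib.GroupTheory.Abelianization.Defs

/-!
# `Lin2` and `Elem`: generalities (helper158, S4579)
-/

set_option autoImplicit false

namespace Cfsg.Agent.H158.Sd

open Subgroup
open Cfsg.Agent.H643.Sd (Lin2 Elem)

theorem lin2_of_sq {P : Type*} [Group P] (h : ∀ x : P, x ^ 2 ∈ commutator P) : Lin2 P := by
  intro f x
  have h1 : commutator P ≤ f.ker := Abelianization.commutator_subset_ker f
  rw [← map_pow]
  exact h1 (h x)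

theorem Lin2.of_surj {P P' : Type*} [Group P] [Group P'] (h : Lin2 P) (φ : P →* P') (hφ : Function.Surjective φ) :
    Lin2 P' := by
  intro f x
  obtain ⟨y, rfl⟩ := hφ x
  exact h (f.comp φ) y

theorem elem_of_lin2 {G : Type*} [Group G] [Finite G] (P : Sylow 2 G) (h : Lin2 (P : Subgroup G)) : Elem G := by
  have hp : Fact (Nat.Prime 2) := ⟨Nat.prime_two⟩
  intro P'
  have e : (P : Subgroup G) ≃* (P' : Subgroup G) := Sylow.equiv P P'
  exact Lin2.of_surj h e.toMonoidHom e.surjective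

theorem elem_of_surj {G H : Type*} [Group G] [Finite G] [Group H] (φ : G →* H) (hφ : Function.Surjective φ)
    (h : Elem G) : Elem H := by
  have hp : Fact (Nat.Prime 2) := ⟨Nat.prime_two⟩
  have hH : Finite H := Finite.of_surjective φ hφ
  obtain ⟨P⟩ := (inferInstance : Nonempty (Sylow 2 G))
  let T : Sylow 2 H := P.mapSurjective hφ
  have hT : (T : Subgroup H) = (P : Subgroup G).map φ := Sylow.coe_mapSurjective hφ P
  refine elem_of_lin2 T ?_
  have h1 : ∀ x : (P : Subgroup G), φ x ∈ (T : Subgroup H) := fun x => hT ▸ ⟨x, x.2, rfl⟩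
  refine Lin2.of_surj (h P) ((φ.comp (P : Subgroup G).subtype).codRestrict (T : Subgroup H) h1) ?_
  rintro ⟨y, hy⟩
  rw [hT] at hy
  obtain ⟨x, hx, rfl⟩ := hy
  exact ⟨⟨x, hx⟩, rfl⟩

theorem elem_congr {G H : Type*} [Group G] [Finite G] [Group H] (e : G ≃* H) (h : Elem G) : Elem H :=
  elem_of_surj e.toMonoidHom e.surjective h

end Cfsg.Agent.H158.Sd
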