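import Mathlib
import Cfsg.Agent.H158.Sd.Gen
import Cfsg.Agent.H763.PsuSyl
import Cfsg.Agent.S4623

/-!
# Linear characters of the block model of a Sylow 2-subgroup (helper158, S4579)

`f` is a homomorphism from the block model `St α β P D2 Q` (block monomial matrices of determinant 1 with entries in the
Sylow 2-subgroup `P` of `GL_2` or `GU_2`) to an abelian group.
-/

set_option autoImplicit false
set_option linter.unusedVariables false
set_option linter.unusedSectionVars false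

namespace Cfsg.Agent.H158.Sd

open Subgroup Equiv
open Cfsg.Agent.FooteOdd
open Cfsg.Agent.H763 Cfsg.Agent.H763.Psa
open Cfsg.Agent.H643.Sd (Lin2 Elem)

/-! ### Generalities -/

section gen

theorem lin2_sylow_perm (m : ℕ) (Q : Sylow 2 (Perm (Fin m))) : Lin2 (Q : Subgroup (Perm (Fin m))) := by
  have hp : Fact (Nat.Prime 2) := ⟨Nat.prime_two⟩
  refine lin2_of_sq ?_
  have Q' : Sylow 2 (alternatingGroup (Fin m)) := default
  exact (Cfsg.Agent.S4623.result 2 m Q Q').1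

theorem lin2_sylow_perm_hom {A : Type*} [CommGroup A] (m : ℕ) (Q : Sylow 2 (Perm (Fin m)))
    (g : (Q : Subgroup (Perm (Fin m))) →* A) (π : (Q : Subgroup (Perm (Fin m)))) : g π ^ 2 = 1 := by
  have hp : Fact (Nat.Prime 2) := ⟨Nat.prime_two⟩
  have Q' : Sylow 2 (alternatingGroup (Fin m)) := default
  have h1 : commutator (Q : Subgroup (Perm (Fin m))) ≤ g.ker := Abelianization.commutator_subset_ker g
  rw [← map_pow]
  exact h1 ((Cfsg.Agent.S4623.result 2 m Q Q').1 π)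

/-- In a Sylow 2-subgroup of the symmetric group of degree `2 ^ k` any two points are interchanged by some element. -/
theorem exists_swap (k : ℕ) (Q : Sylow 2 (Perm (Fin (2 ^ k)))) (i j : Fin (2 ^ k)) (hij : i ≠ j) :
    ∃ π ∈ (Q : Subgroup (Perm (Fin (2 ^ k)))), π i = j ∧ π j = i := by
  have hp : Fact (Nat.Prime 2) := ⟨Nat.prime_two⟩
  have hc : Fintype.card (Fin k → ZMod 2) = Fintype.card (Fin (2 ^ k)) := by
    rw [Fintype.card_fun, ZMod.card, Fintype.card_fin, Fintype.card_fin]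
  let e : (Fin k → ZMod 2) ≃ Fin (2 ^ k) := Fintype.equivOfCardEq hc
  let τ : Multiplicative (Fin k → ZMod 2) →* Perm (Fin (2 ^ k)) :=
    { toFun := fun v => (e.symm.trans (Equiv.addRight (Multiplicative.toAdd v))).trans e
      map_one' := by ext x; simp
      map_mul' := fun v w => by ext x; simp [add_assoc, add_comm, add_left_comm] }
  have hτ : ∀ v x, τ v x = e (e.symm x + Multiplicative.toAdd v) := fun v x => rfl
  have h2 : ∀ v : Multiplicative (Fin k → ZMod 2), v ^ 2 = 1 := by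
    intro v
    apply Multiplicative.toAdd.injective
    rw [toAdd_pow, two_nsmul, toAdd_one]
    funext l
    exact CharTwo.add_self_eq_zero _
  have hpg : IsPGroup 2 τ.range := by
    rintro ⟨x, v, rfl⟩
    refine ⟨1, Subtype.ext ?_⟩
    change τ v ^ 2 ^ 1 = 1
    rw [pow_one, ← map_pow, h2, map_one]
  obtain ⟨Q', hQ'⟩ := hpg.exists_le_sylow
  obtain ⟨g, hg⟩ := MulAction.exists_smul_eq (Perm (Fin (2 ^ k))) Q' Q
  -- interchange `g⁻¹ i` and `g⁻¹ j`
  have hne : g⁻¹ i ≠ g⁻¹ j := fun h => hij (g⁻¹.injective h)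
  let v : Multiplicative (Fin k → ZMod 2) := Multiplicative.ofAdd (e.symm (g⁻¹ i) + e.symm (g⁻¹ j))
  have hd : ∀ a b : Fin k → ZMod 2, a + (a + b) = b := by
    intro a b
    rw [← add_assoc]
    have : a + a = 0 := by funext l; exact CharTwo.add_self_eq_zero _
    rw [this, zero_add]
  have hv1 : τ v (g⁻¹ i) = g⁻¹ j := by
    rw [hτ]
    change e (e.symm (g⁻¹ i) + (e.symm (g⁻¹ i) + e.symm (g⁻¹ j))) = _
    rw [hd, Equiv.apply_symm_apply]
  have hv2 : τ v (g⁻¹ j) = g⁻¹ i := by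
    rw [hτ]
    change e (e.symm (g⁻¹ j) + (e.symm (g⁻¹ i) + e.symm (g⁻¹ j))) = _
    rw [add_comm (e.symm (g⁻¹ i)), hd, Equiv.apply_symm_apply]
  refine ⟨g * τ v * g⁻¹, ?_, ?_, ?_⟩
  · rw [← hg]
    exact ⟨τ v, hQ' ⟨v, rfl⟩, rfl⟩
  · rw [Perm.mul_apply, Perm.mul_apply, hv1]
    exact g.apply_symm_apply j
  · rw [Perm.mul_apply, Perm.mul_apply, hv2]
    exact g.apply_symm_apply i

end gen

/-! ### The block model -/

section blk

variable {K : Type*} [Field K] {α β : Type*} [Fintype α] [DecidableEq α] [Fintype β] [DecidableEq β]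
variable {P M : Subgroup (G2 K)} {D2 : Subgroup Kˣ} {c0 t0 : G2 K} {Q : Subgroup (Perm α)} {A : Type*} [CommGroup A]

/-- the elements `a` of the block diagonal group for which `f (J a)` has square 1 -/
def Gd (f : ↥(St α β P D2 Q) →* A) : Subgroup (Pa K α β) where
  carrier := {a | ∃ h : Psa.IsB P D2 a, f ⟨J a, h.mem⟩ ^ 2 = 1}
  one_mem' := ⟨Cfsg.Agent.H763.Psa.IsB.one, by
    have : (⟨J 1, (Cfsg.Agent.H763.Psa.IsB.one (α := α) (β := β) (P := P) (D2 := D2)).mem⟩ : ↥(St α β P D2 Q)) = 1 := Subtype.ext (map_one J)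
    rw [this, map_one, one_pow]⟩
  mul_mem' := by
    rintro a b ⟨ha, ha2⟩ ⟨hb, hb2⟩
    refine ⟨ha.mul hb, ?_⟩
    have : (⟨J (a * b), (ha.mul hb).mem⟩ : ↥(St α β P D2 Q)) = ⟨J a, ha.mem⟩ * ⟨J b, hb.mem⟩ := Subtype.ext (map_mul J a b)
    rw [this, map_mul, mul_pow, ha2, hb2, one_mul]
  inv_mem' := by
    rintro a ⟨ha, ha2⟩
    refine ⟨ha.inv, ?_⟩
    have : (⟨J a⁻¹, ha.inv.mem⟩ : ↥(St α β P D2 Q)) = (⟨J a, ha.mem⟩)⁻¹ := Subtype.ext (map_inv J a)
    rw [this, map_inv, inv_pow, ha2, inv_one]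

theorem mem_Gd {f : ↥(St α β P D2 Q) →* A} {a : Pa K α β} :
    a ∈ Gd f ↔ ∃ h : Psa.IsB P D2 a, f ⟨J a, h.mem⟩ ^ 2 = 1 := Iff.rfl

/-- involutions -/
theorem mem_Gd_of_invol (f : ↥(St α β P D2 Q) →* A) {a : Pa K α β} (ha : Psa.IsB P D2 a) (h : a * a = 1) : a ∈ Gd f := by
  refine ⟨ha, ?_⟩
  rw [← map_pow]
  have : (⟨J a, ha.mem⟩ : ↥(St α β P D2 Q)) ^ 2 = 1 := by
    apply Subtype.ext
    change (J a) ^ 2 = 1
    rw [pow_two, ← map_mul, h, map_one]
  rw [this, map_one]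

/-- homomorphisms from the quaternion group `P ∩ SL_2` -/
theorem sq_P0 (h : PDat P M D2 c0 t0) (F : ↥(P ⊓ (LinearEquiv.det : G2 K →* Kˣ).ker) →* A)
    (x : ↥(P ⊓ (LinearEquiv.det : G2 K →* Kˣ).ker)) : F x ^ 2 = 1 := by
  obtain ⟨x, hx, hd⟩ := x
  have hc0 : c0 ∈ P ⊓ (LinearEquiv.det : G2 K →* Kˣ).ker := ⟨h.c0P, h.c0det⟩
  have ht0 : t0 ∈ P ⊓ (LinearEquiv.det : G2 K →* Kˣ).ker := ⟨h.t0P, h.t0det⟩
  have hd' : LinearEquiv.det x = 1 := hd
  have hFc : F ⟨c0, hc0⟩ ^ 2 = 1 := by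
    have h1 : (⟨t0, ht0⟩ : ↥(P ⊓ (LinearEquiv.det : G2 K →* Kˣ).ker)) * ⟨c0, hc0⟩ * (⟨t0, ht0⟩)⁻¹ = (⟨c0, hc0⟩)⁻¹ :=
      Subtype.ext (h.inv t0 h.t0P h.t0M)
    have h2 := congrArg F h1
    rw [map_mul, map_mul, map_inv, map_inv, mul_comm (F ⟨t0, ht0⟩), mul_inv_cancel_right] at h2
    rw [pow_two]
    nth_rw 1 [h2]
    rw [inv_mul_cancel]
  by_cases hxM : x ∈ M
  · obtain ⟨k, hk⟩ := mem_zpowers_iff.1 (h.c0gen x hxM hd')
    have h1 : (⟨x, hx, hd⟩ : ↥(P ⊓ (LinearEquiv.det : G2 K →* Kˣ).ker)) = ⟨c0, hc0⟩ ^ k := Subtype.ext hk.symm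
    rw [h1, map_zpow, ← zpow_natCast, ← zpow_mul, mul_comm, zpow_mul, zpow_natCast, hFc, one_zpow]
  · have hxx : x * x ∈ M := h.two x hx x hx hxM hxM
    obtain ⟨k, hk⟩ := mem_zpowers_iff.1 (h.c0gen (x * x) hxx (by rw [map_mul, hd', one_mul]))
    -- `x` inverts `c0 ^ k = x ^ 2`
    have h3 : x * c0 ^ k * x⁻¹ = (c0 ^ k)⁻¹ := by
      rw [← conj_zpow, h.inv x hx hxM, inv_zpow]
    have h4 : c0 ^ k = (c0 ^ k)⁻¹ := by
      rw [← h3, hk]
      group
    have h5 : c0 ^ (2 * k) = 1 := by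
      rw [two_mul, zpow_add]
      nth_rw 1 [h4]
      rw [inv_mul_cancel]
    obtain ⟨w, hw, hcw⟩ := h.c0ord
    have h6 : ((2 ^ w : ℕ) : ℤ) ∣ 2 * k := by
      rw [← hcw]
      exact orderOf_dvd_iff_zpow_eq_one.2 h5
    have h7 : (2 : ℤ) ∣ k := by
      obtain ⟨w', rfl⟩ : ∃ w', w = w' + 2 := ⟨w - 2, by omega⟩
      obtain ⟨c, hc⟩ := h6
      refine ⟨2 ^ w' * c, ?_⟩
      push_cast at hc
      have : (2 : ℤ) * k = 2 * (2 * (2 ^ w' * c)) := by rw [hc]; ring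
      omega
    obtain ⟨l, rfl⟩ := h7
    have h8 : (⟨x, hx, hd⟩ : ↥(P ⊓ (LinearEquiv.det : G2 K →* Kˣ).ker)) ^ 2 = ⟨c0, hc0⟩ ^ (2 * l) := by
      apply Subtype.ext
      change x ^ 2 = c0 ^ (2 * l)
      rw [pow_two, ← hk]
    rw [← map_pow, h8, map_zpow, zpow_mul, zpow_ofNat, hFc, one_zpow]

/-- the quaternion groups -/
theorem sg_mem_Gd (h : PDat P M D2 c0 t0) (f : ↥(St α β P D2 Q) →* A) (i : α) {x : G2 K} (hx : x ∈ P)
    (hd : LinearEquiv.det x = 1) : sg (β := β) i x ∈ Gd f := by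
  -- the homomorphism on `P ∩ SL_2`
  let P0 : Subgroup (G2 K) := P ⊓ (LinearEquiv.det : G2 K →* Kˣ).ker
  have hP0 : ∀ y : P0, Psa.IsB P D2 (sg (β := β) i (y : G2 K)) := fun y => isB_sg y.2.1 y.2.2
  let F : P0 →* A :=
    { toFun := fun y => f ⟨J (sg (β := β) i (y : G2 K)), (hP0 y).mem⟩
      map_one' := by
        have : (⟨J (sg (β := β) i ((1 : P0) : G2 K)), (hP0 1).mem⟩ : ↥(St α β P D2 Q)) = 1 := by
          apply Subtype.ext
          change J (sg (β := β) i (1 : G2 K)) = 1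
          rw [sg_one, map_one]
        rw [this, map_one]
      map_mul' := fun y z => by
        rw [← map_mul]
        congr 1
        apply Subtype.ext
        change J (sg (β := β) i ((y : G2 K) * (z : G2 K))) = J (sg i (y : G2 K)) * J (sg i (z : G2 K))
        rw [sg_mul, map_mul] }
  exact ⟨isB_sg hx hd, sq_P0 h F ⟨x, hx, hd⟩⟩

/-- interchanged blocks -/
theorem delta_mem_Gd (f : ↥(St α β P D2 Q) →* A) {i j : α} (hij : i ≠ j) {π : Perm α} (hπ : π ∈ Q) (hi : π i = j)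
    (hj : π j = i) {x : G2 K} (hx : x ∈ P) : sg (β := β) i x * (sg j x)⁻¹ ∈ Gd f := by
  have hB : Psa.IsB P D2 (sg (β := β) i x * (sg j x)⁻¹) := by
    refine ⟨fun l => ?_, fun l => D2.mul_mem D2.one_mem (D2.inv_mem D2.one_mem), ?_⟩
    · change (Pi.mulSingle i x : α → G2 K) l * ((Pi.mulSingle j x : α → G2 K) l)⁻¹ ∈ P
      refine P.mul_mem ?_ (P.inv_mem ?_)
      · rw [Pi.mulSingle_apply]; split_ifs
        · exact hx
        · exact P.one_mem
      · rw [Pi.mulSingle_apply]; split_ifs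
        · exact hx
        · exact P.one_mem
    · rw [map_mul, map_mul, map_inv, map_inv, det_sg, det_sg, mul_inv_cancel]
  refine ⟨hB, ?_⟩
  have hcomm : sg (β := β) i x * (sg j x)⁻¹ = (sg j x)⁻¹ * sg i x := by
    refine Prod.ext (funext fun l => ?_) (by rfl)
    change (Pi.mulSingle i x : α → G2 K) l * ((Pi.mulSingle j x : α → G2 K) l)⁻¹ =
      ((Pi.mulSingle j x : α → G2 K) l)⁻¹ * (Pi.mulSingle i x : α → G2 K) l
    by_cases h1 : l = i
    · subst h1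
      rw [Pi.mulSingle_eq_of_ne hij, inv_one, mul_one, one_mul]
    · rw [Pi.mulSingle_eq_of_ne h1, one_mul, mul_one]
  have hcj : cj (1 : Pa K α β) π (sg (β := β) i x * (sg j x)⁻¹) = (sg (β := β) i x * (sg j x)⁻¹)⁻¹ := by
    rw [mul_inv_rev, inv_inv]
    refine Prod.ext (funext fun l => ?_) (by
      change (1 : β → Kˣ) * 1⁻¹ = 1 * 1⁻¹
      rfl)
    change (1 : G2 K) * ((Pi.mulSingle i x : α → G2 K) (π⁻¹ l) * ((Pi.mulSingle j x : α → G2 K) (π⁻¹ l))⁻¹) * 1⁻¹ =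
      (Pi.mulSingle j x : α → G2 K) l * ((Pi.mulSingle i x : α → G2 K) l)⁻¹
    rw [one_mul, inv_one, mul_one]
    have hπi : π⁻¹ j = i := by rw [← hi]; exact π.symm_apply_apply i
    have hπj : π⁻¹ i = j := by rw [← hj]; exact π.symm_apply_apply j
    have e1 : (Pi.mulSingle i x : α → G2 K) (π⁻¹ l) = (Pi.mulSingle j x : α → G2 K) l := by
      rw [Pi.mulSingle_apply, Pi.mulSingle_apply]
      by_cases h1 : l = j
      · rw [if_pos (by rw [h1, hπi]), if_pos h1]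
      · rw [if_neg, if_neg h1]
        intro h2
        apply h1
        have := congrArg π h2
        rw [hi] at this
        rw [← this]
        exact (π.apply_symm_apply l).symm
    have e2 : (Pi.mulSingle j x : α → G2 K) (π⁻¹ l) = (Pi.mulSingle i x : α → G2 K) l := by
      rw [Pi.mulSingle_apply, Pi.mulSingle_apply]
      by_cases h1 : l = i
      · rw [if_pos (by rw [h1, hπj]), if_pos h1]
      · rw [if_neg, if_neg h1]
        intro h2
        apply h1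
        have := congrArg π h2
        rw [hj] at this
        rw [← this]
        exact (π.apply_symm_apply l).symm
    rw [e1, e2]
  have h1 := cj_spec (1 : Pa K α β) π (sg (β := β) i x * (sg j x)⁻¹)
  rw [hcj, map_one, one_mul, map_inv] at h1
  have h2 : (⟨bp π, bp_mem_St hπ⟩ : ↥(St α β P D2 Q)) * ⟨J (sg (β := β) i x * (sg j x)⁻¹), hB.mem⟩ * (⟨bp π, bp_mem_St hπ⟩)⁻¹ =
      (⟨J (sg (β := β) i x * (sg j x)⁻¹), hB.mem⟩)⁻¹ := Subtype.ext h1
  have h3 := congrArg f h2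
  rw [map_mul, map_mul, map_inv, map_inv, mul_comm (f ⟨bp π, _⟩), mul_inv_cancel_right] at h3
  rw [pow_two]
  nth_rw 1 [h3]
  rw [inv_mul_cancel]

/-- **Reduction to a complement of the determinant**: `C ≤ P` with `det C = det P`. -/
theorem mem_Gd_of_C (h : PDat P M D2 c0 t0) (f : ↥(St α β P D2 Q) →* A) (C : Subgroup (G2 K)) (hCP : C ≤ P)
    (hC : ∀ x ∈ P, ∃ c ∈ C, LinearEquiv.det c = LinearEquiv.det x)
    (hf : ∀ a : Pa K α β, Psa.IsB C D2 a → a ∈ Gd f) {a : Pa K α β} (ha : Psa.IsB P D2 a) : a ∈ Gd f := by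
  choose! c hc hcd using hC
  let b : Pa K α β := (fun i => c (a.1 i), a.2)
  have hb : Psa.IsB C D2 b := by
    refine ⟨fun i => hc _ (ha.1 i), ha.2.1, ?_⟩
    have h1 := ha.2.2
    rw [det_J] at h1 ⊢
    rw [← h1]
    congr 1
    exact Finset.prod_congr rfl fun i _ => hcd _ (ha.1 i)
  have h2 : a * b⁻¹ ∈ Gd f := by
    have h3 : a * b⁻¹ = MonoidHom.inl (α → G2 K) (β → Kˣ) (fun i => a.1 i * (c (a.1 i))⁻¹) := by
      refine Prod.ext rfl ?_
      change a.2 * a.2⁻¹ = 1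
      rw [mul_inv_cancel]
    rw [h3, ← Subgroup.mem_comap]
    refine Subgroup.pi_mem_of_mulSingle_mem _ fun i => ?_
    rw [Subgroup.mem_comap]
    change sg (β := β) i (a.1 i * (c (a.1 i))⁻¹) ∈ Gd f
    refine sg_mem_Gd h f i (P.mul_mem (ha.1 i) (P.inv_mem (hCP (hc _ (ha.1 i))))) ?_
    rw [map_mul, map_inv, hcd _ (ha.1 i), mul_inv_cancel]
  have h4 := (Gd f).mul_mem h2 (hf b hb)
  rwa [inv_mul_cancel_right] at h4

/-- **The full model**: `f` has square 1 if it has square 1 on the block diagonal matrices and on the permutations. -/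
theorem sq_of_Gd (f : ↥(St α β P D2 Q) →* A) (h1 : ∀ a : Pa K α β, Psa.IsB P D2 a → a ∈ Gd f)
    (h2 : ∀ g : Q →* A, ∀ π : Q, g π ^ 2 = 1) (x : ↥(St α β P D2 Q)) : f x ^ 2 = 1 := by
  obtain ⟨x, hx⟩ := x
  obtain ⟨p, π, hπ, hp, rfl⟩ := exists_of_mem hx
  have e : (⟨J p * bp π, hx⟩ : ↥(St α β P D2 Q)) = ⟨J p, hp.mem⟩ * ⟨bp π, bp_mem_St hπ⟩ := rfl
  rw [e, map_mul, mul_pow]
  obtain ⟨_, h3⟩ := h1 p hp
  rw [h3, one_mul]
  let g : Q →* A :=
    { toFun := fun π => f ⟨bp (π : Perm α), bp_mem_St π.2⟩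
      map_one' := by
        have : (⟨bp ((1 : Q) : Perm α), bp_mem_St (1 : Q).2⟩ : ↥(St α β P D2 Q)) = 1 := Subtype.ext (map_one bp)
        rw [this, map_one]
      map_mul' := fun π ρ => by
        rw [← map_mul]
        congr 1
        exact Subtype.ext (map_mul bp _ _) }
  exact h2 g ⟨π, hπ⟩

/-- **All pairs of blocks can be interchanged.** -/
theorem mem_Gd_of_swap [IsEmpty β] [Nonempty α] (h : PDat P M D2 c0 t0) (f : ↥(St α β P D2 Q) →* A)
    (hsw : ∀ i j : α, i ≠ j → ∃ π ∈ Q, π i = j ∧ π j = i) {a : Pa K α β} (ha : Psa.IsB P D2 a) : a ∈ Gd f := by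
  obtain ⟨i0⟩ := ‹Nonempty α›
  have key : ∀ s : Finset α, i0 ∉ s → ∀ a : Pa K α β, Psa.IsB P D2 a → (∀ i, i ≠ i0 → i ∉ s → a.1 i = 1) → a ∈ Gd f := by
    intro s
    induction s using Finset.induction_on with
    | empty =>
      intro _ a ha h1
      have h2 : a = sg (β := β) i0 (a.1 i0) := by
        refine Prod.ext (funext fun i => ?_) (funext fun j => isEmptyElim j)
        change a.1 i = (Pi.mulSingle i0 (a.1 i0) : α → G2 K) i
        by_cases hi : i = i0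
        · subst hi; rw [Pi.mulSingle_eq_same]
        · rw [Pi.mulSingle_eq_of_ne hi, h1 i hi (Finset.notMem_empty i)]
      have h3 := ha.2.2
      rw [h2, det_sg] at h3
      rw [h2]
      exact sg_mem_Gd h f i0 (ha.1 i0) h3
    | insert i s his ih =>
      intro hi0 a ha h1
      have hne : i ≠ i0 := fun h2 => hi0 (by rw [h2]; exact Finset.mem_insert_self _ _)
      obtain ⟨π, hπ, hp1, hp2⟩ := hsw i i0 hne
      have hδ : sg (β := β) i (a.1 i) * (sg i0 (a.1 i))⁻¹ ∈ Gd f := delta_mem_Gd f hne hπ hp1 hp2 (ha.1 i)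
      have hδB : Psa.IsB P D2 (sg (β := β) i (a.1 i) * (sg i0 (a.1 i))⁻¹) := hδ.1
      set δ : Pa K α β := sg (β := β) i (a.1 i) * (sg i0 (a.1 i))⁻¹ with hδe
      have h2 : δ⁻¹ * a ∈ Gd f := by
        refine ih (fun h3 => hi0 (Finset.mem_insert_of_mem h3)) _ (hδB.inv.mul ha) ?_
        intro l hl hls
        change (((Pi.mulSingle i (a.1 i) : α → G2 K) l * ((Pi.mulSingle i0 (a.1 i) : α → G2 K) l)⁻¹))⁻¹ * a.1 l = 1
        rw [Pi.mulSingle_eq_of_ne hl, inv_one, mul_one]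
        by_cases hli : l = i
        · subst hli; rw [Pi.mulSingle_eq_same, inv_mul_cancel]
        · rw [Pi.mulSingle_eq_of_ne hli, inv_one, one_mul]
          refine h1 l hl ?_
          rw [Finset.mem_insert]
          push Not
          exact ⟨hli, hls⟩
      have h4 := (Gd f).mul_mem hδ h2
      rwa [mul_inv_cancel_left] at h4
  refine key (Finset.univ.erase i0) (Finset.notMem_erase _ _) a ha ?_
  intro i hi hi2
  exact absurd (Finset.mem_erase.2 ⟨hi, Finset.mem_univ _⟩) hi2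

end blk

end Cfsg.Agent.H158.Sd
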