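import Mathlib
import Cfsg.Agent.H158.Sd.Blk

/-!
# `Elem` for `PSU_n(q)`, `q` odd, `q ≡ 1 mod 4` or `n` a power of 2 (helper158, S4579, task CL-PSU)
-/

set_option autoImplicit false
set_option linter.unusedVariables false
set_option linter.unusedSectionVars false

namespace Cfsg.Agent.H158.Sd

open Subgroup Equiv
open Cfsg.Agent.FooteOdd
open Cfsg.Agent.H763 Cfsg.Agent.H763.Psa
open Cfsg.Agent.H643.Sd (Lin2 Elem)
open Cfsg.Agent.LieClassical.GUOrder (frob frob_apply frob_frob two_le card_ker_pow)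

section

variable {K : Type*} [Field K] {α β : Type*} [Fintype α] [DecidableEq α] [Fintype β] [DecidableEq β]
variable {P M : Subgroup (G2 K)} {D2 : Subgroup Kˣ} {c0 t0 : G2 K} {Q : Subgroup (Perm α)}

/-- from the model to the Sylow subgroup -/
theorem lin2_of_mod {S : Type*} [Group S] (md : Mod α β P D2 Q S) (h : Lin2 ↥(St α β P D2 Q)) : Lin2 S := by
  let φ : ↥(St α β P D2 Q) →* S :=
    { toFun := fun g => md.Ψ (g : (Ix α β → K) ≃ₗ[K] (Ix α β → K))
      map_one' := md.one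
      map_mul' := fun g g' => md.mul _ g.2 _ g'.2 }
  refine Lin2.of_surj h φ ?_
  intro s
  obtain ⟨g, hg, hgs⟩ := md.surj s
  exact ⟨⟨g, hg⟩, hgs⟩

end

section

variable {K : Type*} [Field K] [Fintype K] {q : ℕ}

/-- an involution of determinant `-1` in a Sylow 2-subgroup of `GU_2(q)` -/
theorem exists_refl (hF : Fintype.card K = q ^ 2) (two : (2 : K) ≠ 0) {P : Subgroup (G2 K)} (hP : P ≤ gu hF (Fin 2))
    (hPc : Nat.card P = 2 ^ (Nat.card (gu hF (Fin 2))).factorization 2) :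
    ∃ s ∈ P, s * s = 1 ∧ LinearEquiv.det s = -1 := by
  have hp : Fact (Nat.Prime 2) := ⟨Nat.prime_two⟩
  have hf2 : Finite (G2 K) := Finite.of_injective _ DFunLike.coe_injective
  have hoddq := odd_q hF two
  let PS : Sylow 2 ↥(gu hF (Fin 2)) := Sylow.ofCard (P.subgroupOf (gu hF (Fin 2))) (by
    rw [Nat.card_congr (subgroupOfEquivOfLe hP).toEquiv, hPc])
  have hPS : (PS : Subgroup ↥(gu hF (Fin 2))) = P.subgroupOf (gu hF (Fin 2)) := rfl
  let d : G2 K := dg ![-1, 1]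
  have hd : d ∈ gu hF (Fin 2) := by
    refine dg_mem_gu hF fun i => ?_
    fin_cases i
    · exact Even.neg_one_pow hoddq.add_one
    · exact one_pow _
  have hdd : d * d = 1 := by
    change dg ![-1, 1] * dg ![-1, 1] = 1
    rw [← map_mul]
    have : (![-1, 1] : Fin 2 → Kˣ) * ![-1, 1] = 1 := by
      funext i; fin_cases i <;> simp
    rw [this, map_one]
  have hddet : LinearEquiv.det d = -1 := by
    change LinearEquiv.det (dg ![-1, 1] : G2 K) = -1
    rw [det_dg, Fin.prod_univ_two]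
    simp
  have hpg : IsPGroup 2 (zpowers (⟨d, hd⟩ : ↥(gu hF (Fin 2)))) := by
    rintro ⟨x, k, rfl⟩
    refine ⟨1, Subtype.ext ?_⟩
    change ((⟨d, hd⟩ : ↥(gu hF (Fin 2))) ^ k) ^ (2 ^ 1) = 1
    rw [pow_one, ← zpow_natCast, ← zpow_mul, mul_comm, zpow_mul, zpow_natCast]
    have : (⟨d, hd⟩ : ↥(gu hF (Fin 2))) ^ 2 = 1 := Subtype.ext (by rw [pow_two]; exact hdd)
    rw [this, one_zpow]
  obtain ⟨S', hS'⟩ := hpg.exists_le_sylow
  obtain ⟨g, hg⟩ := MulAction.exists_smul_eq ↥(gu hF (Fin 2)) S' PS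
  refine ⟨(g : G2 K) * d * (g : G2 K)⁻¹, ?_, ?_, ?_⟩
  · have h1 : g * ⟨d, hd⟩ * g⁻¹ ∈ (PS : Subgroup ↥(gu hF (Fin 2))) := by
      rw [← hg]
      exact ⟨⟨d, hd⟩, hS' (mem_zpowers _), rfl⟩
    rw [hPS] at h1
    exact h1
  · have : (g : G2 K) * d * (g : G2 K)⁻¹ * ((g : G2 K) * d * (g : G2 K)⁻¹) = (g : G2 K) * (d * d) * (g : G2 K)⁻¹ := by group
    rw [this, hdd]
    group
  · rw [map_mul, map_mul, map_inv, mul_comm (LinearEquiv.det (g : G2 K)), mul_inv_cancel_right, hddet]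

/-- `Lin2` of the model, `q ≡ 1 (mod 4)` -/
theorem lin2_St_one (hF : Fintype.card K = q ^ 2) (two : (2 : K) ≠ 0) (hq : q % 4 = 1) {m r : ℕ}
    {P M : Subgroup (G2 K)} {D2 : Subgroup Kˣ} {c0 t0 : G2 K} (hP : P ≤ gu hF (Fin 2))
    (hPc : Nat.card P = 2 ^ (Nat.card (gu hF (Fin 2))).factorization 2)
    (hDc : Nat.card D2 = 2 ^ (Nat.card (powMonoidHom (q + 1) : Kˣ →* Kˣ).ker).factorization 2)
    (h : PDat P M D2 c0 t0) (Q : Sylow 2 (Perm (Fin m))) :
    Lin2 ↥(St (Fin m) (Fin r) P D2 (Q : Subgroup (Perm (Fin m)))) := by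
  have hneg : ∀ d ∈ D2, d * d = 1 := by
    intro d hd
    have hfac : (q + 1).factorization 2 = 1 := S1217.factorization_two_of_mod (by omega)
    rw [card_ker_pow hF, hfac, pow_one] at hDc
    have h1 := pow_card_eq_one' (x := (⟨d, hd⟩ : D2))
    rw [hDc, pow_two] at h1
    exact congrArg Subtype.val h1
  obtain ⟨s, hsP, hss, hsd⟩ := exists_refl hF two hP hPc
  intro f
  refine sq_of_Gd f (fun a ha => ?_) (lin2_sylow_perm_hom m Q)
  refine mem_Gd_of_C h f (zpowers s) ((zpowers_le).2 hsP) ?_ ?_ ha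
  · intro x hx
    have h1 : LinearEquiv.det x * LinearEquiv.det x = 1 := hneg _ (h.det_mem x hx)
    have h2 : LinearEquiv.det x = 1 ∨ LinearEquiv.det x = -1 := by
      have h3 : ((LinearEquiv.det x : Kˣ) : K) * ((LinearEquiv.det x : Kˣ) : K) = 1 := by
        rw [← Units.val_mul, h1, Units.val_one]
      rcases mul_self_eq_one_iff.1 h3 with h4 | h4
      · exact Or.inl (Units.ext h4)
      · exact Or.inr (Units.ext (by rw [h4, Units.val_neg, Units.val_one]))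
    rcases h2 with h2 | h2
    · exact ⟨1, one_mem _, by rw [h2, map_one]⟩
    · exact ⟨s, mem_zpowers s, by rw [h2, hsd]⟩
  · intro a ha
    refine mem_Gd_of_invol f (ha.mono ((zpowers_le).2 hsP)) ?_
    refine Prod.ext (funext fun i => ?_) (funext fun j => hneg _ (ha.2.1 j))
    obtain ⟨k, hk⟩ := mem_zpowers_iff.1 (ha.1 i)
    change a.1 i * a.1 i = 1
    rw [← hk, ← zpow_add, ← two_mul, zpow_mul, zpow_two, hss, one_zpow]

/-- `Lin2` of the model, `n` a power of 2 -/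
theorem lin2_St_pow {P M : Subgroup (G2 K)} {D2 : Subgroup Kˣ} {c0 t0 : G2 K} (h : PDat P M D2 c0 t0) (k : ℕ)
    (Q : Sylow 2 (Perm (Fin (2 ^ k)))) : Lin2 ↥(St (Fin (2 ^ k)) (Fin 0) P D2 (Q : Subgroup (Perm (Fin (2 ^ k))))) := by
  have hne : Nonempty (Fin (2 ^ k)) := ⟨⟨0, by positivity⟩⟩
  intro f
  refine sq_of_Gd f (fun a ha => ?_) (lin2_sylow_perm_hom _ Q)
  exact mem_Gd_of_swap h f (fun i j hij => exists_swap k Q i j hij) ha

end

section psu

open Cfsg.Agent.LieClassical.SUBasic (mem_center_SU_iff suScalar)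
open Matrix (SpecialLinearGroup ProjectiveSpecialLinearGroup)

variable {K : Type*} [Field K] [Fintype K] {q : ℕ}

/-- Sylow 2-subgroups of `PSU_n(q)` in terms of the block model, for given `P`, `D2` and `Q` -/
theorem exists_mod_psu_of {n : ℕ} (hn : 3 ≤ n) (hF : Fintype.card K = q ^ 2) (two : (2 : K) ≠ 0)
    {P : Subgroup (G2 K)} {D2 : Subgroup Kˣ} (h1 : P ≤ gu hF (Fin 2)) (h2 : D2 ≤ (powMonoidHom (q + 1) : Kˣ →* Kˣ).ker)
    (h3 : Nat.card P = 2 ^ (Nat.card (gu hF (Fin 2))).factorization 2)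
    (h4 : Nat.card D2 = 2 ^ (Nat.card (powMonoidHom (q + 1) : Kˣ →* Kˣ).ker).factorization 2)
    (Q : Sylow 2 (Perm (Fin (n / 2)))) :
    ∃ T : Sylow 2 (Cfsg.PSU n K q),
      Nonempty (Mod (Fin (n / 2)) (Fin (n % 2)) P D2 (Q : Subgroup (Perm (Fin (n / 2)))) ↥(T : Subgroup (Cfsg.PSU n K q))) := by
  have hm : Nonempty (Fin (n / 2)) := ⟨⟨0, by omega⟩⟩
  have hnn : Nonempty (Fin n) := ⟨⟨0, by omega⟩⟩
  set s := guSys hF two (n / 2) (n % 2) (by omega) with hs
  have hcard : Fintype.card (Ix (Fin (n / 2)) (Fin (n % 2))) = n := by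
    simp; omega
  let e : Ix (Fin (n / 2)) (Fin (n % 2)) ≃ Fin n := Fintype.equivFinOfCardEq hcard
  have hΓ : s.Γ ≤ (LinearEquiv.det : _ →* Kˣ).ker := inf_le_right
  have hfinSU : Finite (Cfsg.SU n K q) := inferInstance
  have hfin : Finite (Cfsg.PSU n K q) := Finite.of_surjective (QuotientGroup.mk' (center (Cfsg.SU n K q))) (QuotientGroup.mk'_surjective _)
  let φ : ↥s.Γ →* Cfsg.SU n K q := MonoidHom.codRestrict (toSL.comp ((reKer e).comp (inclusion hΓ))) (Cfsg.SU n K q) fun g => by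
    change toSL (reKer e (inclusion hΓ g)) ∈ _
    rw [toSL_mem_SU hF]
    exact (cjE_mem_gu hF e _).2 g.2.1
  have hφ : Function.Surjective φ := by
    rintro ⟨A, hA⟩
    obtain ⟨g, rfl⟩ := toSL_surjective A
    obtain ⟨h, rfl⟩ := reKer_surjective e g
    rw [toSL_mem_SU hF] at hA
    exact ⟨⟨h, (cjE_mem_gu hF e _).1 hA, h.2⟩, rfl⟩
  let ψ : ↥s.Γ →* Cfsg.PSU n K q := (QuotientGroup.mk' (center (Cfsg.SU n K q))).comp φ
  obtain ⟨T, hT⟩ := exists_mod_sys s (P := P) (D2 := D2) h1 h2 h3 h4 Q ψ (by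
    intro x
    obtain ⟨A, rfl⟩ := QuotientGroup.mk'_surjective _ x
    obtain ⟨g, rfl⟩ := hφ A
    exact ⟨g, rfl⟩) (by
    intro g
    have h1 : ψ g = 1 ↔ toSL (reKer e (inclusion hΓ g)) ∈ center (SpecialLinearGroup (Fin n) K) := by
      change (QuotientGroup.mk' (center (Cfsg.SU n K q))) (φ g) = 1 ↔ _
      rw [QuotientGroup.mk'_apply, QuotientGroup.eq_one_iff]
      constructor
      · intro h
        obtain ⟨c, hcn, hcq, hc⟩ := (mem_center_SU_iff hF hn _).1 h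
        rw [Matrix.SpecialLinearGroup.mem_center_iff]
        refine ⟨c, by rw [Fintype.card_fin]; exact hcn, ?_⟩
        have h2 := congrArg (fun X : Cfsg.SU n K q => ((X : SpecialLinearGroup (Fin n) K) : Matrix (Fin n) (Fin n) K)) hc
        exact h2.symm
      · intro h
        rw [mem_center_iff] at h ⊢
        intro B
        exact Subtype.ext (h B)
    rw [h1, toSL_mem_center, reKer_scalar]
    rfl)
  exact ⟨T, hT⟩

/-- **`Elem` for `PSU_n(q)`**, `q` odd, `q ≡ 1 (mod 4)` or `n` a power of 2. -/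
theorem elem_PSU {n : ℕ} (hn : 3 ≤ n) (hF : Fintype.card K = q ^ 2) (hq : Odd q) (h : q % 4 = 1 ∨ ∃ k, n = 2 ^ k) :
    Elem (Cfsg.PSU n K q) := by
  have hp : Fact (Nat.Prime 2) := ⟨Nat.prime_two⟩
  have two : (2 : K) ≠ 0 := two_of_odd (by rw [hF]; exact hq.pow)
  have hfinSU : Finite (Cfsg.SU n K q) := inferInstance
  have hfin : Finite (Cfsg.PSU n K q) := Finite.of_surjective (QuotientGroup.mk' (center (Cfsg.SU n K q))) (QuotientGroup.mk'_surjective _)
  obtain ⟨P, M, D2, c0, t0, h1, h2, h3, h4, hd⟩ := pdat_gu hF two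
  let Q : Sylow 2 (Perm (Fin (n / 2))) := default
  obtain ⟨T, ⟨md⟩⟩ := exists_mod_psu_of hn hF two h1 h2 h3 h4 Q
  refine elem_of_lin2 T (lin2_of_mod md ?_)
  rcases h with h | ⟨k, hk⟩
  · exact lin2_St_one hF two h h1 h3 h4 hd Q
  · obtain ⟨k, rfl⟩ : ∃ j, k = j + 1 := by
      rcases k with _ | k
      · rw [pow_zero] at hk; omega
      · exact ⟨k, rfl⟩
    have e1 : n / 2 = 2 ^ k := by rw [hk, pow_succ]; omega
    have e2 : n % 2 = 0 := by rw [hk, pow_succ]; omega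
    clear md T
    generalize n / 2 = m at Q e1 ⊢
    generalize n % 2 = r at e2 ⊢
    subst e1 e2
    exact lin2_St_pow hd k Q

end psu

end Cfsg.Agent.H158.Sd
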