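import Mathlib
import Cfsg.Agent.H158.Sd.Gen

/-!
# The frame lemma (helper158, S4579)

`Y` a finite group, `T ≤ N ≤ M`, `T` abelian and normalised by `N`; `L i` pairwise commuting subgroups with `Elem (L i)`,
`E = ⨆ L i` normalised by `M`, `M = E N`; `Q` a 2-subgroup of `M` such that `Q ∩ N` is a Sylow 2-subgroup of `N` and
`Q ∩ E` is one of `E`. A homomorphism `f` on `Q` with `f ^ 2 = 1` on `Q ∩ T` has `f ^ 2 = 1`, if `N` is
`(N ∩ E T) Γ` with `Elem Γ`.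
-/

set_option autoImplicit false
set_option linter.unusedVariables false
set_option linter.unusedSectionVars false

namespace Cfsg.Agent.H158.Sd

open Subgroup
open Cfsg.Agent.H643.Sd (Lin2 Elem)

variable {Y : Type*} [Group Y] [Finite Y]

/-- **Splitting**: `M = E N` with `E` normal in `M`, `Q ≤ M` a 2-group with `Q ∩ N` Sylow in `N`: `Q = (Q ∩ E) (Q ∩ N)`. -/
theorem split_sylow {Q E N M : Subgroup Y} (hQ : IsPGroup 2 Q) (hEM : E ≤ M) (hNM : N ≤ M)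
    (hE : ∀ m ∈ M, ∀ e ∈ E, m * e * m⁻¹ ∈ E) (hM : ∀ m ∈ M, ∃ e ∈ E, ∃ n ∈ N, m = e * n) (hQM : Q ≤ M)
    (hQN : ¬ 2 ∣ (Q ⊓ N).relIndex N) {x : Y} (hx : x ∈ Q) : ∃ e ∈ Q ⊓ E, ∃ n ∈ Q ⊓ N, x = e * n := by
  have hp : Fact (Nat.Prime 2) := ⟨Nat.prime_two⟩
  have hEn : (E.subgroupOf M).Normal := ⟨fun e he m => hE m m.2 e he⟩
  let π : ↥M →* ↥M ⧸ E.subgroupOf M := QuotientGroup.mk' _
  let φ : ↥N →* ↥M ⧸ E.subgroupOf M := π.comp (inclusion hNM)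
  have hφ : Function.Surjective φ := by
    intro y
    obtain ⟨m, rfl⟩ := QuotientGroup.mk'_surjective _ y
    obtain ⟨e, he, n, hn, hm⟩ := hM m m.2
    refine ⟨⟨n, hn⟩, ?_⟩
    change π (inclusion hNM ⟨n, hn⟩) = π m
    have h1 : m = ⟨e, hEM he⟩ * inclusion hNM ⟨n, hn⟩ := Subtype.ext hm
    rw [h1, map_mul]
    have h2 : π ⟨e, hEM he⟩ = 1 := (QuotientGroup.eq_one_iff _).2 he
    rw [h2, one_mul]
  let R : Subgroup (↥M ⧸ E.subgroupOf M) := ((Q ⊓ N).subgroupOf N).map φ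
  let B : Subgroup (↥M ⧸ E.subgroupOf M) := (Q.subgroupOf M).map π
  have hRi : ¬ 2 ∣ R.index := fun h => hQN (h.trans (index_map_dvd _ hφ))
  have hRB : R ≤ B := by
    rintro _ ⟨n, hn, rfl⟩
    exact ⟨inclusion hNM n, hn.1, rfl⟩
  have hB : IsPGroup 2 B := (hQ.of_equiv (subgroupOfEquivOfLe hQM).symm).map π
  have hBR : B ≤ R := by
    obtain ⟨k, hk⟩ := (IsPGroup.iff_card.1 hB)
    have h1 : R.relIndex B ∣ 2 ^ k := by rw [← hk]; exact relIndex_dvd_card R B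
    have h2 : R.relIndex B ∣ R.index := relIndex_dvd_index_of_le hRB
    obtain ⟨j, -, hj⟩ := (Nat.dvd_prime_pow Nat.prime_two).1 h1
    rcases j with _ | j
    · rw [pow_zero] at hj
      exact relIndex_eq_one.1 hj
    · exact absurd ((dvd_pow_self 2 (Nat.succ_ne_zero j)).trans (hj ▸ h2)) hRi
  obtain ⟨n, hn, hnx⟩ := hBR ⟨⟨x, hQM hx⟩, hx, rfl⟩
  have h3 : (⟨x, hQM hx⟩ : ↥M) * (inclusion hNM n)⁻¹ ∈ E.subgroupOf M := by
    rw [← QuotientGroup.eq_one_iff, QuotientGroup.mk_mul, QuotientGroup.mk_inv]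
    have h4 : ((inclusion hNM n : ↥M) : ↥M ⧸ E.subgroupOf M) = ((⟨x, hQM hx⟩ : ↥M) : ↥M ⧸ E.subgroupOf M) := hnx
    rw [h4, mul_inv_cancel]
  have hn' : (n : Y) ∈ Q ⊓ N := hn
  refine ⟨x * (n : Y)⁻¹, ⟨Q.mul_mem hx (Q.inv_mem hn'.1), h3⟩, n, hn', ?_⟩
  rw [inv_mul_cancel_right]

/-- **Central products**: `A i ≤ L i` of odd index in commuting subgroups `L i`: the join of the `A i` has odd index in the
join of the `L i`. -/
theorem odd_relIndex_iSup {ι : Type*} [Finite ι] {L A : ι → Subgroup Y} (hAL : ∀ i, A i ≤ L i)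
    (hL : ∀ i j, i ≠ j → ∀ x ∈ L i, ∀ y ∈ L j, x * y = y * x) (hA : ∀ i, ¬ 2 ∣ (A i).relIndex (L i)) :
    ¬ 2 ∣ (⨆ i, A i).relIndex (⨆ i, L i) := by
  classical
  have := Fintype.ofFinite ι
  have hcomm : Pairwise fun i j => ∀ x y : Y, x ∈ L i → y ∈ L j → Commute x y :=
    fun i j hij x y hx hy => hL i j hij x hx y hy
  let φ : (∀ i, ↥(L i)) →* Y := Subgroup.noncommPiCoprod hcomm
  have hφr : φ.range = ⨆ i, L i := Subgroup.noncommPiCoprod_range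
  let B : Subgroup (∀ i, ↥(L i)) := Subgroup.pi Set.univ fun i => (A i).subgroupOf (L i)
  have hBi : B.index = ∏ i, (A i).relIndex (L i) := by
    have h1 : Nat.card B = ∏ i, Nat.card ((A i).subgroupOf (L i)) := by
      rw [← Nat.card_pi]
      refine Nat.card_congr ⟨fun x i => ⟨x.1 i, x.2 i (Set.mem_univ i)⟩, fun x => ⟨fun i => (x i : ↥(L i)), fun i _ => (x i).2⟩,
        fun x => rfl, fun x => rfl⟩
    have h2 := B.card_mul_index
    have h3 : Nat.card (∀ i, ↥(L i)) = (∏ i, Nat.card ((A i).subgroupOf (L i))) * ∏ i, (A i).relIndex (L i) := by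
      rw [Nat.card_pi, ← Finset.prod_mul_distrib]
      exact Finset.prod_congr rfl fun i _ => ((A i).subgroupOf (L i)).card_mul_index.symm
    rw [h1, h3] at h2
    exact Nat.eq_of_mul_eq_mul_left (Finset.prod_pos fun i _ => Nat.card_pos) h2
  have hB2 : ¬ 2 ∣ B.index := by
    rw [hBi, Prime.dvd_finsetProd_iff Nat.prime_two.prime]
    rintro ⟨i, -, hi⟩
    exact hA i hi
  intro h
  refine hB2 (h.trans ?_)
  rw [← hφr]
  -- pass to the range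
  let ψ := φ.rangeRestrict
  have h4 : (B.map ψ).index ∣ B.index := index_map_dvd _ φ.rangeRestrict_surjective
  refine dvd_trans ?_ h4
  have h5 : B.map ψ ≤ (⨆ i, A i).subgroupOf φ.range := by
    rintro _ ⟨b, hb, rfl⟩
    change φ b ∈ ⨆ i, A i
    rw [show φ b = _ from Subgroup.noncommPiCoprod_apply hcomm b]
    refine Subgroup.noncommProd_mem _ _ fun i _ => ?_
    exact (le_iSup A i) (hb i (Set.mem_univ i))
  exact index_dvd_of_le h5

/-- the subgroup of the elements of `Q` on which `f` has square 1 -/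
def Sq {Q : Subgroup Y} {A : Type*} [CommGroup A] (f : Q →* A) : Subgroup Y where
  carrier := {x | ∃ h : x ∈ Q, f ⟨x, h⟩ ^ 2 = 1}
  one_mem' := ⟨Q.one_mem, by
    have : (⟨1, Q.one_mem⟩ : Q) = 1 := rfl
    rw [this, map_one, one_pow]⟩
  mul_mem' := by
    rintro a b ⟨ha, ha2⟩ ⟨hb, hb2⟩
    refine ⟨Q.mul_mem ha hb, ?_⟩
    have : (⟨a * b, Q.mul_mem ha hb⟩ : Q) = ⟨a, ha⟩ * ⟨b, hb⟩ := rfl
    rw [this, map_mul, mul_pow, ha2, hb2, one_mul]
  inv_mem' := by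
    rintro a ⟨ha, ha2⟩
    refine ⟨Q.inv_mem ha, ?_⟩
    have : (⟨a⁻¹, Q.inv_mem ha⟩ : Q) = (⟨a, ha⟩)⁻¹ := rfl
    rw [this, map_inv, inv_pow, ha2, inv_one]

theorem mem_Sq {Q : Subgroup Y} {A : Type*} [CommGroup A] {f : Q →* A} {x : Y} :
    x ∈ Sq f ↔ ∃ h : x ∈ Q, f ⟨x, h⟩ ^ 2 = 1 := Iff.rfl

theorem Sq_le {Q : Subgroup Y} {A : Type*} [CommGroup A] (f : Q →* A) : Sq f ≤ Q := fun x hx => hx.1

/-- `Q ∩ H` Sylow in `H` and `Elem H`: `f ^ 2 = 1` on `Q ∩ H`. -/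
theorem inf_le_Sq {Q : Subgroup Y} (hQ : IsPGroup 2 Q) (f : Q →* ℂˣ) {H : Subgroup Y} (hH : Elem H)
    (hQH : ¬ 2 ∣ (Q ⊓ H).relIndex H) : Q ⊓ H ≤ Sq f := by
  have hp : Fact (Nat.Prime 2) := ⟨Nat.prime_two⟩
  have hpg : IsPGroup 2 ((Q ⊓ H).subgroupOf H) :=
    (hQ.to_le inf_le_left).of_equiv (subgroupOfEquivOfLe inf_le_right).symm
  let P : Sylow 2 H := hpg.toSylow hQH
  have hP : (P : Subgroup H) = (Q ⊓ H).subgroupOf H := rfl
  let g : (P : Subgroup H) →* ℂˣ := f.comp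
    { toFun := fun x => ⟨((x : H) : Y), (x.2 : ((x : H) : Y) ∈ Q ⊓ H).1⟩
      map_one' := rfl
      map_mul' := fun _ _ => rfl }
  intro x hx
  exact ⟨hx.1, hH P g ⟨⟨x, hx.2⟩, hx⟩⟩

/-- a subgroup of odd index of a group meets a normal subgroup in a subgroup of odd index -/
theorem not_dvd_of_normal' {Q E M : Subgroup Y} (hEM : E ≤ M) (hE : ∀ m ∈ M, ∀ e ∈ E, m * e * m⁻¹ ∈ E)
    (h : ¬ 2 ∣ Q.relIndex M) : ¬ 2 ∣ (Q ⊓ E).relIndex E := by
  have hp : Fact (Nat.Prime 2) := ⟨Nat.prime_two⟩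
  have hEn : (E.subgroupOf M).Normal := ⟨fun e he m => hE m m.2 e he⟩
  -- in the group `M`
  have h1 : ¬ 2 ∣ (Q.subgroupOf M).relIndex (E.subgroupOf M) := by
    set S := Q.subgroupOf M
    set L := E.subgroupOf M
    intro h0
    have h1 : L.relIndex (S ⊔ L) = L.relIndex S := relIndex_sup_right _ _
    have h2 := relIndex_mul_relIndex (S ⊓ L) S (S ⊔ L) inf_le_left le_sup_left
    have h3 := relIndex_mul_relIndex (S ⊓ L) L (S ⊔ L) inf_le_right le_sup_right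
    rw [inf_relIndex_left] at h2
    rw [inf_relIndex_right, h1, ← h2, mul_comm] at h3
    have h4 : L.relIndex S ≠ 0 := ne_zero_of_dvd_ne_zero Nat.card_pos.ne' (relIndex_dvd_card _ _)
    have h5 := Nat.eq_of_mul_eq_mul_left (Nat.pos_of_ne_zero h4) h3
    rw [h5] at h0
    exact h (h0.trans (relIndex_dvd_index_of_le le_sup_left))
  rwa [relIndex_subgroupOf hEM, ← inf_relIndex_right] at h1

/-- a Sylow subgroup of a group meets a normal subgroup in a Sylow subgroup -/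
theorem not_dvd_of_normal {Q E M : Subgroup Y} (hEM : E ≤ M) (hE : ∀ m ∈ M, ∀ e ∈ E, m * e * m⁻¹ ∈ E) (hQ : IsPGroup 2 Q)
    (hQM : Q ≤ M) (h : ¬ 2 ∣ Q.relIndex M) : ¬ 2 ∣ (Q ⊓ E).relIndex E :=
  not_dvd_of_normal' hEM hE h

/-- **The frame lemma.** -/
theorem frame_lemma {ι : Type*} [Finite ι] {T N M Γ Q : Subgroup Y} {L : ι → Subgroup Y}
    (hTN : T ≤ N) (hNT : ∀ n ∈ N, ∀ t ∈ T, n * t * n⁻¹ ∈ T) (hNM : N ≤ M) (hLM : ∀ i, L i ≤ M)
    (hL : ∀ i j, i ≠ j → ∀ x ∈ L i, ∀ y ∈ L j, x * y = y * x) (hEl : ∀ i, Elem (L i))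
    (hE : ∀ m ∈ M, ∀ e ∈ ⨆ i, L i, m * e * m⁻¹ ∈ ⨆ i, L i)
    (hMN : ∀ m ∈ M, ∃ e ∈ ⨆ i, L i, ∃ n ∈ N, m = e * n)
    (hΓN : Γ ≤ N) (hΓ : Elem Γ) (hNΓ : ∀ n ∈ N, ∃ b ∈ N ⊓ ((⨆ i, L i) ⊔ T), ∃ γ ∈ Γ, n = b * γ)
    (hQ : IsPGroup 2 Q) (hQM : Q ≤ M) (hQi : ¬ 2 ∣ Q.relIndex M) (hQN : ¬ 2 ∣ (Q ⊓ N).relIndex N)
    (f : Q →* ℂˣ) (hf : ∀ x : Q, (x : Y) ∈ T → f x ^ 2 = 1) (x : Q) : f x ^ 2 = 1 := by
  have hp : Fact (Nat.Prime 2) := ⟨Nat.prime_two⟩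
  set E := ⨆ i, L i with hEdef
  have hEM : E ≤ M := iSup_le hLM
  have hLE : ∀ i, L i ≤ E := fun i => le_iSup L i
  -- `f ^ 2 = 1` on `Q ∩ E`
  have hQE : ¬ 2 ∣ (Q ⊓ E).relIndex E := not_dvd_of_normal hEM hE hQ hQM hQi
  have hLn : ∀ i, ∀ e ∈ E, ∀ y ∈ L i, e * y * e⁻¹ ∈ L i := by
    intro i e he
    have h1 : E ≤ Subgroup.normalizer (L i : Set Y) := by
      refine iSup_le fun j => ?_
      intro z hz
      by_cases hij : j = i
      · subst hij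
        exact Subgroup.le_normalizer hz
      · rw [Subgroup.mem_normalizer_iff]
        intro y
        constructor
        · intro hy
          have := hL j i hij z hz y hy
          rwa [this, mul_inv_cancel_right]
        · intro hy
          have h2 := hL j i hij z⁻¹ ((L j).inv_mem hz) _ hy
          have h3 : y = z⁻¹ * (z * y * z⁻¹) * z := by group
          rw [h3, h2, inv_mul_cancel_right]
          exact hy
    intro y hy
    exact (Subgroup.mem_normalizer_iff.1 (h1 he) y).1 hy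
  have hSqL : ∀ i, Q ⊓ L i ≤ Sq f := by
    intro i
    refine inf_le_Sq hQ f (hEl i) ?_
    have h1 := not_dvd_of_normal (Q := Q ⊓ E) (E := L i) (M := E) (hLE i) (hLn i) (hQ.to_le inf_le_left) inf_le_right hQE
    rwa [inf_assoc, inf_eq_right.2 (hLE i)] at h1
  have hSqE : Q ⊓ E ≤ Sq f := by
    have h1 : ⨆ i, Q ⊓ L i ≤ Q ⊓ E := iSup_le fun i => inf_le_inf_left Q (hLE i)
    have h2 : ¬ 2 ∣ (⨆ i, Q ⊓ L i).relIndex E := by
      refine odd_relIndex_iSup (fun i => inf_le_right) hL fun i => ?_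
      have h1 := not_dvd_of_normal (Q := Q ⊓ E) (E := L i) (M := E) (hLE i) (hLn i) (hQ.to_le inf_le_left) inf_le_right hQE
      rwa [inf_assoc, inf_eq_right.2 (hLE i)] at h1
    -- equality of the two 2-groups
    have h3 : Q ⊓ E ≤ ⨆ i, Q ⊓ L i := by
      obtain ⟨k, hk⟩ := IsPGroup.iff_card.1 (hQ.to_le (inf_le_left : Q ⊓ E ≤ Q))
      have h4 : (⨆ i, Q ⊓ L i).relIndex (Q ⊓ E) ∣ 2 ^ k := by rw [← hk]; exact relIndex_dvd_card _ _
      have h5 : (⨆ i, Q ⊓ L i).relIndex (Q ⊓ E) ∣ (⨆ i, Q ⊓ L i).relIndex E := by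
        rw [← relIndex_mul_relIndex _ _ _ h1 inf_le_right]
        exact dvd_mul_right _ _
      obtain ⟨j, -, hj⟩ := (Nat.dvd_prime_pow Nat.prime_two).1 h4
      rcases j with _ | j
      · rw [pow_zero] at hj
        exact relIndex_eq_one.1 hj
      · exact absurd ((dvd_pow_self 2 (Nat.succ_ne_zero j)).trans (hj ▸ h5)) h2
    exact h3.trans (iSup_le hSqL)
  -- `f ^ 2 = 1` on `Q ∩ E T`
  have hET : ∀ z ∈ E ⊔ T, ∃ e ∈ E, ∃ t ∈ T, z = e * t := by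
    have h1 : T ≤ Subgroup.normalizer (E : Set Y) := by
      intro t ht
      rw [Subgroup.mem_normalizer_iff]
      intro y
      constructor
      · exact fun hy => hE t (hNM (hTN ht)) y hy
      · intro hy
        have h2 := hE t⁻¹ (M.inv_mem (hNM (hTN ht))) _ hy
        have h3 : t⁻¹ * (t * y * t⁻¹) * t⁻¹⁻¹ = y := by group
        rwa [h3] at h2
    intro z hz
    have h2 : (z : Y) ∈ (↑(E ⊔ T) : Set Y) := hz
    rw [Subgroup.coe_mul_of_right_le_normalizer_left E T h1] at h2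
    obtain ⟨e, he, t, ht, h⟩ := h2
    exact ⟨e, he, t, ht, h.symm⟩
  have hBM : E ⊔ T ≤ M := sup_le hEM (hTN.trans hNM)
  have hSqT : ∀ t ∈ Q ⊓ T, t ∈ Sq f := fun t ht => ⟨ht.1, hf ⟨t, ht.1⟩ ht.2⟩
  have hQT : ¬ 2 ∣ (Q ⊓ T).relIndex T := by
    have h1 := not_dvd_of_normal (Q := Q ⊓ N) (E := T) (M := N) hTN hNT (hQ.to_le inf_le_left) inf_le_right hQN
    rwa [inf_assoc, inf_eq_right.2 hTN] at h1
  have hSqB : Q ⊓ (E ⊔ T) ≤ Sq f := by
    intro x hx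
    obtain ⟨e, he, t, ht, rfl⟩ := split_sylow (Q := Q ⊓ (E ⊔ T)) (E := E) (N := T) (M := E ⊔ T) (hQ.to_le inf_le_left)
      le_sup_left le_sup_right (fun m hm => hE m (hBM hm)) hET inf_le_right (by
        rw [inf_assoc, inf_eq_right.2 (le_sup_right : T ≤ E ⊔ T)]
        exact hQT) hx
    exact (Sq f).mul_mem (hSqE ⟨he.1.1, he.2⟩) (hSqT t ⟨ht.1.1, ht.2⟩)
  -- `N` normalises `E T`
  have hNB : ∀ n ∈ N, ∀ b ∈ E ⊔ T, n * b * n⁻¹ ∈ E ⊔ T := by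
    intro n hn b hb
    obtain ⟨e, he, t, ht, rfl⟩ := hET b hb
    have h1 : n * (e * t) * n⁻¹ = (n * e * n⁻¹) * (n * t * n⁻¹) := by group
    rw [h1]
    exact mul_mem ((le_sup_left : E ≤ E ⊔ T) (hE n (hNM hn) e he)) ((le_sup_right : T ≤ E ⊔ T) (hNT n hn t ht))
  -- a conjugate of `Γ`
  have hSqN : Q ⊓ N ≤ Sq f := by
    have hpg : IsPGroup 2 ((Q ⊓ N).subgroupOf N) :=
      (hQ.to_le inf_le_left).of_equiv (subgroupOfEquivOfLe inf_le_right).symm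
    let SN : Sylow 2 N := hpg.toSylow hQN
    have hSN : (SN : Subgroup N) = (Q ⊓ N).subgroupOf N := rfl
    obtain ⟨P⟩ := (inferInstance : Nonempty (Sylow 2 Γ))
    have hP : IsPGroup 2 ((P : Subgroup Γ).map (inclusion hΓN)) := P.2.map _
    obtain ⟨S', hS'⟩ := hP.exists_le_sylow
    obtain ⟨g, hg⟩ := MulAction.exists_smul_eq N S' SN
    have hgP : ∀ y ∈ (P : Subgroup Γ), (g : Y) * (y : Y) * (g : Y)⁻¹ ∈ Q := by
      intro y hy
      have h1 : g * inclusion hΓN y * g⁻¹ ∈ (SN : Subgroup N) := by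
        rw [← hg]
        exact ⟨inclusion hΓN y, hS' ⟨y, hy, rfl⟩, rfl⟩
      rw [hSN] at h1
      exact h1.1
    set Γ' : Subgroup Y := Γ.map (MulAut.conj (g : Y)).toMonoidHom with hΓ'
    have hΓ'N : Γ' ≤ N := by
      rintro _ ⟨y, hy, rfl⟩
      exact N.mul_mem (N.mul_mem g.2 (hΓN hy)) (N.inv_mem g.2)
    have e := Γ.equivMapOfInjective (MulAut.conj (g : Y)).toMonoidHom (MulAut.conj (g : Y)).injective
    have hEl' : Elem Γ' := elem_congr e hΓ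
    have hidx : ¬ 2 ∣ (Q ⊓ Γ').relIndex Γ' := by
      -- the preimage of `Q ∩ Γ'` in `Γ` contains `P`
      have h1 : (P : Subgroup Γ) ≤ ((Q ⊓ Γ').subgroupOf Γ').comap
          (Γ.equivMapOfInjective (MulAut.conj (g : Y)).toMonoidHom (MulAut.conj (g : Y)).injective).toMonoidHom := by
        intro y hy
        refine ⟨?_, (Γ.equivMapOfInjective (MulAut.conj (g : Y)).toMonoidHom (MulAut.conj (g : Y)).injective y).2⟩
        exact hgP y hy
      have h2 := index_dvd_of_le h1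
      rw [index_comap_of_surjective _ (MulEquiv.surjective _)] at h2
      exact fun h => P.not_dvd_index (h.trans h2)
    have hSqΓ : Q ⊓ Γ' ≤ Sq f := inf_le_Sq hQ f hEl' hidx
    intro x hx
    obtain ⟨b, hb, γ, hγ, rfl⟩ := split_sylow (Q := Q ⊓ N) (E := N ⊓ (E ⊔ T)) (N := Γ') (M := N) (hQ.to_le inf_le_left)
      inf_le_left hΓ'N (fun m hm e he => ⟨N.mul_mem (N.mul_mem hm he.1) (N.inv_mem hm), hNB m hm e he.2⟩) (by
        intro n hn
        obtain ⟨b, hb, γ, hγ, h⟩ := hNΓ ((g : Y)⁻¹ * n * g) (N.mul_mem (N.mul_mem (N.inv_mem g.2) hn) g.2)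
        refine ⟨g * b * (g : Y)⁻¹, ⟨N.mul_mem (N.mul_mem g.2 hb.1) (N.inv_mem g.2), hNB g g.2 b hb.2⟩,
          g * γ * (g : Y)⁻¹, ⟨γ, hγ, rfl⟩, ?_⟩
        have : n = g * ((g : Y)⁻¹ * n * g) * (g : Y)⁻¹ := by group
        rw [this, h]
        group) inf_le_right (by
        rw [inf_assoc, inf_eq_right.2 hΓ'N]
        exact hidx) hx
    exact (Sq f).mul_mem (hSqB ⟨hb.1.1, hb.2.2⟩) (hSqΓ ⟨hγ.1.1, hγ.2⟩)
  obtain ⟨e, he, n, hn, h⟩ := split_sylow hQ hEM hNM hE hMN hQM hQN x.2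
  have h1 : (x : Y) ∈ Sq f := by
    rw [h]
    exact (Sq f).mul_mem (hSqE he) (hSqN hn)
  exact h1.2

end Cfsg.Agent.H158.Sd
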