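import Mathlib
import Cfsg.Agent.H201.Blocks

/-!
# Operators permuting the blocks (helper158, S4579)
-/

set_option autoImplicit false
set_option linter.unusedVariables false
set_option linter.unusedSectionVars false

namespace Cfsg.Agent.H158.Sd

open Subgroup Equiv
open Cfsg.Agent.FooteOdd
open Cfsg.Agent.H201.Blocks (ub ub_inl ub_inr emb_add emb_smul eq_emb exists_J)

variable {K : Type*} [Field K] {α β : Type*} [Fintype α] [DecidableEq α] [Fintype β] [DecidableEq β]

/-- the block of a coordinate -/
def part : Ix α β → α ⊕ β := Sum.map Prod.fst id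

@[simp] theorem part_inl (i : α) (k : Fin 2) : part (β := β) (Sum.inl (i, k)) = Sum.inl i := rfl
@[simp] theorem part_inr (j : β) : part (α := α) (Sum.inr j) = Sum.inr j := rfl

/-- `-1` on the blocks in `s` -/
noncomputable def sgn (β : Type*) [Fintype β] [DecidableEq β] (s : Finset α) : (Ix α β → K) ≃ₗ[K] (Ix α β → K) :=
  J (fun a => if a ∈ s then sc (-1) else 1, 1)

theorem sgn_inl (s : Finset α) (i : α) (k : Fin 2) (v : Ix α β → K) :
    sgn β s v (Sum.inl (i, k)) = (if i ∈ s then -1 else 1) * v (Sum.inl (i, k)) := by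
  rw [sgn, J_inl]
  change ((if i ∈ s then sc (-1) else 1 : (Fin 2 → K) ≃ₗ[K] (Fin 2 → K))) _ k = _
  split_ifs
  · rw [sc_apply]; simp
  · simp

theorem sgn_inr (s : Finset α) (j : β) (v : Ix α β → K) : sgn β s v (Sum.inr j) = v (Sum.inr j) := by
  rw [sgn, J_inr]
  simp

/-- the sign of a part -/
def sg1 (K : Type*) [Field K] (s : Finset α) : α ⊕ β → K := Sum.elim (fun a => if a ∈ s then -1 else 1) fun _ => 1

theorem sgn_apply (s : Finset α) (v : Ix α β → K) (o : Ix α β) : sgn β s v o = sg1 K s (part o) * v o := by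
  rcases o with (⟨i, k⟩ | j)
  · rw [sgn_inl]; rfl
  · rw [sgn_inr]
    change _ = 1 * _
    rw [one_mul]

/-- the family `𝓢` of sets of blocks separates the parts -/
def Separates (K : Type*) [Field K] (β : Type*) (𝓢 : Set (Finset α)) : Prop :=
  ∀ l l' : α ⊕ β, l ≠ l' → ∃ s ∈ 𝓢, sg1 K s l ≠ sg1 K s l'

/-- common eigenvectors are supported by one part -/
theorem supp_of_eig {𝓢 : Set (Finset α)} (h𝓢 : Separates K β 𝓢) {w : Ix α β → K}
    (hw : ∀ s ∈ 𝓢, ∃ d : K, sgn β s w = d • w) {o o' : Ix α β} (ho : part o ≠ part o') : w o = 0 ∨ w o' = 0 := by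
  by_contra hcon
  push Not at hcon
  obtain ⟨s, hs, hne⟩ := h𝓢 _ _ ho
  obtain ⟨d, hd⟩ := hw s hs
  have h1 := congrFun hd o
  have h2 := congrFun hd o'
  rw [sgn_apply, Pi.smul_apply, smul_eq_mul] at h1 h2
  exact hne ((mul_right_cancel₀ hcon.1 h1).trans (mul_right_cancel₀ hcon.2 h2).symm)

theorem sgn_emb (s : Finset α) (a : α) (x : Fin 2 → K) : sgn β s (emb β a x) = (sg1 K s (Sum.inl a : α ⊕ β)) • emb β a x := by
  funext o
  rw [sgn_apply, Pi.smul_apply, smul_eq_mul]
  rcases o with (⟨i, k⟩ | j)
  · by_cases h : i = a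
    · subst h; rfl
    · rw [emb_ne h, mul_zero, mul_zero]
  · rw [emb_inr, mul_zero, mul_zero]

theorem sgn_inr_single (s : Finset α) (j : β) :
    sgn β s (Pi.single (Sum.inr j) 1 : Ix α β → K) = Pi.single (Sum.inr j) 1 := by
  funext o
  rw [sgn_apply]
  by_cases h : o = Sum.inr j
  · subst h
    change (1 : K) * _ = _
    rw [one_mul]
  · rw [Pi.single_eq_of_ne h, mul_zero]

/-- **Operators normalising (up to scalars) a separating family of sign operators permute the blocks.** -/
theorem exists_J_bp [Subsingleton β] (two : (2 : K) ≠ 0) {𝓢 : Set (Finset α)} (h𝓢 : Separates K β 𝓢)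
    (g : (Ix α β → K) ≃ₗ[K] (Ix α β → K))
    (hg : ∀ s ∈ 𝓢, ∃ c : K, ∃ s' : Finset α, ∀ v, sgn β s (g v) = c • g (sgn β s' v)) :
    ∃ (p : (α → (Fin 2 → K) ≃ₗ[K] (Fin 2 → K)) × (β → Kˣ)) (π : Perm α), g = J p * bp π := by
  classical
  -- images of block vectors are common eigenvectors
  have hce : ∀ a x, ∀ s ∈ 𝓢, ∃ d : K, sgn β s (g (emb β a x)) = d • g (emb β a x) := by
    intro a x s hs
    obtain ⟨c, s', h⟩ := hg s hs
    refine ⟨c * sg1 K s' (Sum.inl a : α ⊕ β), ?_⟩
    rw [h, sgn_emb, map_smul, smul_smul]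
  have hce' : ∀ j, ∀ s ∈ 𝓢, ∃ d : K, sgn β s (g (Pi.single (Sum.inr j) 1)) = d • g (Pi.single (Sum.inr j) 1) := by
    intro j s hs
    obtain ⟨c, s', h⟩ := hg s hs
    exact ⟨c, by rw [h, sgn_inr_single]⟩
  have hemb0 : ∀ (a : α) (x : Fin 2 → K), emb β a x = 0 → x = 0 := by
    intro a x h
    funext k
    have := congrFun h (Sum.inl (a, k))
    rwa [emb_same] at this
  -- the part of a block
  have hA : ∀ a : α, ∃ l : α ⊕ β, ∀ x o, part o ≠ l → g (emb β a x) o = 0 := by
    intro a
    have h1 : g (emb β a (fun _ => 1)) ≠ 0 := by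
      intro h
      have h2 := hemb0 a _ ((LinearEquiv.map_eq_zero_iff g).1 h)
      exact one_ne_zero (congrFun h2 0)
    obtain ⟨o0, ho0⟩ := Function.ne_iff.1 h1
    refine ⟨part o0, fun x o ho => ?_⟩
    by_contra hcon
    have h3 : g (emb β a x) o0 = 0 := (supp_of_eig h𝓢 (hce a x) ho).resolve_left hcon
    have h4 : g (emb β a (fun _ => 1)) o = 0 := (supp_of_eig h𝓢 (hce a (fun _ => 1)) ho).resolve_right ho0
    have h5 := supp_of_eig h𝓢 (hce a (x + fun _ => 1)) ho
    rw [emb_add, map_add, Pi.add_apply, Pi.add_apply, h3, h4, add_zero, zero_add] at h5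
    rcases h5 with h5 | h5
    · exact hcon h5
    · exact ho0 h5
  choose l hl using hA
  -- it is a block
  have hB : ∀ a, ∃ b : α, l a = Sum.inl b := by
    intro a
    rcases hla : l a with b | j
    · exact ⟨b, rfl⟩
    · exfalso
      -- all images are multiples of one vector
      have h1 : ∀ x, g (emb β a x) = (g (emb β a x) (Sum.inr j)) • (Pi.single (Sum.inr j) 1 : Ix α β → K) := by
        intro x
        funext o
        rw [Pi.smul_apply, smul_eq_mul]
        by_cases ho : o = Sum.inr j
        · subst ho; simp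
        · rw [Pi.single_eq_of_ne ho, mul_zero]
          apply hl a x o
          rw [hla]
          rcases o with (⟨i, k⟩ | j')
          · simp
          · simp only [part_inr, ne_eq, Sum.inr.injEq]
            exact fun h => ho (by rw [h])
      set c0 := g (emb β a (Pi.single 0 1)) (Sum.inr j)
      set c1 := g (emb β a (Pi.single 1 1)) (Sum.inr j)
      have h2 : g (emb β a (c1 • Pi.single 0 1 - c0 • Pi.single 1 1)) = 0 := by
        have e1 : emb β a (c1 • (Pi.single 0 1 : Fin 2 → K) - c0 • Pi.single 1 1) =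
            c1 • emb β a (Pi.single 0 1) - c0 • emb β a (Pi.single 1 1) := by
          rw [sub_eq_add_neg, emb_add, emb_smul, ← neg_smul, emb_smul, neg_smul, ← sub_eq_add_neg]
        rw [e1, map_sub, map_smul, map_smul, h1 (Pi.single 0 1), h1 (Pi.single 1 1), smul_smul, smul_smul, mul_comm c1,
          sub_self]
      have h3 := hemb0 a _ ((LinearEquiv.map_eq_zero_iff g).1 h2)
      have h4 := congrFun h3 0
      have h5 := congrFun h3 1
      simp at h4 h5
      have h6 := h1 (Pi.single 1 1)
      have h7 : c1 = 0 := h4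
      change _ = c1 • _ at h6
      rw [h7, zero_smul] at h6
      have h8 := hemb0 a _ ((LinearEquiv.map_eq_zero_iff g).1 h6)
      have := congrFun h8 1
      simp at this
  choose b hb using hB
  -- the block map is surjective
  have hsurj : ∀ a (y : Fin 2 → K), ∃ x, g (emb β a x) = emb β (b a) y := by
    intro a y
    let F : (Fin 2 → K) →ₗ[K] (Fin 2 → K) :=
      { toFun := fun x k => g (emb β a x) (Sum.inl (b a, k))
        map_add' := fun x x' => by
          funext k
          rw [emb_add, map_add]
          rfl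
        map_smul' := fun c x => by
          funext k
          rw [emb_smul, map_smul]
          rfl }
    have hFe : ∀ x, g (emb β a x) = emb β (b a) (F x) := by
      intro x
      refine eq_emb (fun i k hi => ?_) fun j => ?_
      · apply hl a x
        rw [hb, part_inl]
        simpa using hi
      · apply hl a x
        rw [hb, part_inr]
        simp
    have hF : Function.Injective F := by
      rw [← LinearMap.ker_eq_bot, LinearMap.ker_eq_bot']
      intro x hx
      have h1 := hFe x
      rw [hx] at h1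
      have h2 : emb β (b a) (0 : Fin 2 → K) = 0 := by
        funext o
        rcases o with (⟨i, k⟩ | j)
        · by_cases h : i = b a
          · subst h; rw [emb_same]; rfl
          · rw [emb_ne h]; rfl
        · rw [emb_inr]; rfl
      rw [h2] at h1
      exact hemb0 a x ((LinearEquiv.map_eq_zero_iff g).1 h1)
    obtain ⟨x, hx⟩ := (LinearMap.injective_iff_surjective.1 hF) y
    exact ⟨x, by rw [hFe, hx]⟩
  have hbinj : Function.Injective b := by
    intro a a' haa
    by_contra hne
    obtain ⟨x, hx⟩ := hsurj a' (fun k => g (emb β a (Pi.single 0 1)) (Sum.inl (b a, k)))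
    have h1 : g (emb β a (Pi.single 0 1)) = emb β (b a) (fun k => g (emb β a (Pi.single 0 1)) (Sum.inl (b a, k))) := by
      refine eq_emb (fun i k hi => ?_) fun j => ?_
      · apply hl a
        rw [hb, part_inl]
        simpa using hi
      · apply hl a
        rw [hb, part_inr]
        simp
    rw [← haa, ← h1] at hx
    have h2 := g.injective hx
    have h3 := congrFun h2 (Sum.inl (a, 0))
    rw [emb_ne hne, emb_same] at h3
    simp at h3
  let π : Perm α := Equiv.ofBijective b (Finite.injective_iff_bijective.1 hbinj)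
  have hπ : ∀ a, π a = b a := fun a => rfl
  -- the remaining coordinate
  have hC : ∀ j : β, ∀ o, part o ≠ Sum.inr j → g (Pi.single (Sum.inr j) 1) o = 0 := by
    intro j
    have h1 : g (Pi.single (Sum.inr j) 1) ≠ 0 := by
      intro h
      have h2 := congrFun ((LinearEquiv.map_eq_zero_iff g).1 h) (Sum.inr j)
      simp at h2
    obtain ⟨o0, ho0⟩ := Function.ne_iff.1 h1
    have h2 : ∀ o, part o ≠ part o0 → g (Pi.single (Sum.inr j) 1) o = 0 := fun o ho =>
      (supp_of_eig h𝓢 (hce' j) ho).resolve_right ho0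
    rcases hp0 : part o0 with c | j'
    · exfalso
      rw [hp0] at h2
      obtain ⟨a, ha⟩ : ∃ a, b a = c := ⟨π.symm c, π.apply_symm_apply c⟩
      obtain ⟨x, hx⟩ := hsurj a (fun k => g (Pi.single (Sum.inr j) 1) (Sum.inl (b a, k)))
      have h3 : g (Pi.single (Sum.inr j) 1) = emb β (b a) (fun k => g (Pi.single (Sum.inr j) 1) (Sum.inl (b a, k))) := by
        refine eq_emb (fun i k hi => ?_) fun j => ?_
        · apply h2
          rw [part_inl, ← ha]
          simpa using hi
        · apply h2
          rw [part_inr]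
          simp
      rw [← h3] at hx
      have h4 := congrFun (g.injective hx) (Sum.inr j)
      rw [emb_inr, Pi.single_eq_same] at h4
      exact zero_ne_one h4
    · rw [hp0, Subsingleton.elim j' j] at h2
      exact h2
  -- `(bp π)⁻¹ g` commutes with the `ub a`
  have hub : ∀ a : α, ((bp π : (Ix α β → K) ≃ₗ[K] (Ix α β → K))⁻¹ * g) * ub β a =
      ub β a * ((bp π : (Ix α β → K) ≃ₗ[K] (Ix α β → K))⁻¹ * g) := by
    intro a
    apply ext_single
    rintro (⟨i, k⟩ | j)
    · have e1 : (Pi.single (Sum.inl (i, k)) 1 : Ix α β → K) = emb β i (Pi.single k 1) := (emb_single i k).symm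
      rw [LinearEquiv.mul_apply _ (ub β a), LinearEquiv.mul_apply (ub β a), e1]
      have e2 : ∀ c : Fin 2 → K, ub β a (emb β i c) = (if i = a then (-1 : K) else 1) • emb β i c := by
        intro c
        funext o
        rw [Pi.smul_apply, smul_eq_mul]
        rcases o with (⟨i', k'⟩ | j)
        · rw [ub_inl]
          by_cases h : i' = i
          · subst h
            split_ifs <;> simp
          · rw [emb_ne h, mul_zero]
            split_ifs <;> simp
        · rw [ub_inr, emb_inr, mul_zero]
      rw [e2, map_smul]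
      -- the image lies in the block `i`
      have e3 : ((bp π : (Ix α β → K) ≃ₗ[K] (Ix α β → K))⁻¹ * g) (emb β i (Pi.single k 1)) =
          emb β i (fun k' => ((bp π : (Ix α β → K) ≃ₗ[K] (Ix α β → K))⁻¹ * g) (emb β i (Pi.single k 1)) (Sum.inl (i, k'))) := by
        have e4 : ∀ o : Ix α β, (bp π : (Ix α β → K) ≃ₗ[K] (Ix α β → K))⁻¹ (g (emb β i (Pi.single k 1))) o =
            g (emb β i (Pi.single k 1)) (bpσ π o) := by
          intro o
          rw [← map_inv]
          rcases o with (⟨i', k'⟩ | j)
          · rw [bp_inl, inv_inv]; rfl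
          · rw [bp_inr]; rfl
        refine eq_emb (fun i' k' hi => ?_) fun j => ?_
        · rw [LinearEquiv.mul_apply, e4]
          apply hl i
          rw [hb]
          change Sum.inl (π i') ≠ Sum.inl (b i)
          intro h
          exact hi (π.injective (Sum.inl.inj h))
        · rw [LinearEquiv.mul_apply, e4]
          apply hl i
          rw [hb]
          change (Sum.inr j : α ⊕ β) ≠ Sum.inl (b i)
          simp
      rw [e3, e2]
    · have e2 : ub β a (Pi.single (Sum.inr j) 1 : Ix α β → K) = Pi.single (Sum.inr j) 1 := by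
        funext o
        rcases o with (⟨i', k'⟩ | j')
        · rw [ub_inl]; simp
        · rw [ub_inr]
      rw [LinearEquiv.mul_apply, LinearEquiv.mul_apply (ub β a), e2]
      have e4 : ∀ o : Ix α β, ((bp π : (Ix α β → K) ≃ₗ[K] (Ix α β → K))⁻¹ * g) (Pi.single (Sum.inr j) 1) o =
          g (Pi.single (Sum.inr j) 1) (bpσ π o) := by
        intro o
        rw [← map_inv, LinearEquiv.mul_apply]
        rcases o with (⟨i', k'⟩ | j)
        · rw [bp_inl, inv_inv]; rfl
        · rw [bp_inr]; rfl
      funext o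
      rcases o with (⟨i', k'⟩ | j')
      · rw [ub_inl, e4, hC j _ (by simp)]
        simp
      · rw [ub_inr]
  obtain ⟨p, hp⟩ := exists_J two _ hub
  refine ⟨(p.1 ∘ ⇑π⁻¹, p.2), π, ?_⟩
  rw [← bp_J, ← hp]
  group

end Cfsg.Agent.H158.Sd
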