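import Mathlib
import Cfsg.Agent.H158.Sd.Perm
import Cfsg.Agent.H158.Sd.Frame
import Cfsg.Agent.H158.Sd.ElemPsu
import Cfsg.Agent.H55.Sd.Iface

/-!
# Frames for the unitary groups (helper158, S4579, task CL-PSU)

`V = K^{Ix α β}` with the form `HB`: orthogonal sum of hyperbolic planes (indexed by `α`) and of lines (indexed by `β`).
-/

set_option autoImplicit false
set_option linter.unusedVariables false
set_option linter.unusedSectionVars false

namespace Cfsg.Agent.H158.Sd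

open Subgroup Equiv
open Cfsg.Agent.FooteOdd
open Cfsg.Agent.H763 Cfsg.Agent.H763.Psa
open Cfsg.Agent.H643.Sd (Lin2 Elem)
open Cfsg.Agent.H55.Sd (Frames NCtx RealOnT)
open Cfsg.Agent.LieClassical.GUOrder (frob frob_apply frob_frob two_le card_ker_pow)

variable {K : Type*} [Field K] [Fintype K] {q : ℕ} (hF : Fintype.card K = q ^ 2)

/-! ### The forms -/

/-- the hyperbolic plane -/
def H2 (u v : Fin 2 → K) : K := frob hF (u 1) * v 0 + frob hF (u 0) * v 1

theorem H2_single (k : G2 K)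
    (h00 : hB hF (Fin 2) (k⁻¹ (Pi.single 0 1)) (k⁻¹ (Pi.single 0 1)) = 0)
    (h01 : hB hF (Fin 2) (k⁻¹ (Pi.single 0 1)) (k⁻¹ (Pi.single 1 1)) = 1)
    (h10 : hB hF (Fin 2) (k⁻¹ (Pi.single 1 1)) (k⁻¹ (Pi.single 0 1)) = 1)
    (h11 : hB hF (Fin 2) (k⁻¹ (Pi.single 1 1)) (k⁻¹ (Pi.single 1 1)) = 0) (u v : Fin 2 → K) :
    hB hF (Fin 2) (k⁻¹ u) (k⁻¹ v) = H2 hF u v := by
  have e : ∀ w : Fin 2 → K, k⁻¹ w = w 0 • k⁻¹ (Pi.single 0 1) + w 1 • k⁻¹ (Pi.single 1 1) := by
    intro w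
    rw [← map_smul, ← map_smul, ← map_add]
    congr 1
    funext i
    fin_cases i <;> simp
  rw [e u, e v, hB_add_left, hB_add_right, hB_add_right, hB_smul_left, hB_smul_left, hB_smul_left, hB_smul_left,
    hB_smul_right, hB_smul_right, hB_smul_right, hB_smul_right, h00, h01, h10, h11, H2]
  ring

/-- isometries of the hyperbolic plane -/
def g2 : Subgroup (G2 K) where
  carrier := {g | ∀ u v, H2 hF (g u) (g v) = H2 hF u v}
  mul_mem' {a b} ha hb u v := by
    change H2 hF (a (b u)) (a (b v)) = _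
    rw [ha, hb]
  one_mem' u v := rfl
  inv_mem' {a} ha u v := by
    have := ha (a⁻¹ u) (a⁻¹ v)
    have h : ∀ w, a (a⁻¹ w) = w := fun w => by
      rw [← LinearEquiv.mul_apply, mul_inv_cancel]; rfl
    rw [h, h] at this
    exact this.symm

variable (α β : Type*) [Fintype α] [Fintype β]

/-- the Hermitian form -/
def HB (u v : Ix α β → K) : K :=
  (∑ i, H2 hF (fun s => u (Sum.inl (i, s))) (fun s => v (Sum.inl (i, s)))) + ∑ j, frob hF (u (Sum.inr j)) * v (Sum.inr j)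

/-- its isometry group -/
def gI : Subgroup ((Ix α β → K) ≃ₗ[K] (Ix α β → K)) where
  carrier := {g | ∀ u v, HB hF α β (g u) (g v) = HB hF α β u v}
  mul_mem' {a b} ha hb u v := by
    change HB hF α β (a (b u)) (a (b v)) = _
    rw [ha, hb]
  one_mem' u v := rfl
  inv_mem' {a} ha u v := by
    have := ha (a⁻¹ u) (a⁻¹ v)
    have h : ∀ w, a (a⁻¹ w) = w := fun w => by
      rw [← LinearEquiv.mul_apply, mul_inv_cancel]; rfl
    rw [h, h] at this
    exact this.symm

variable {α β}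

theorem mem_gI {g : (Ix α β → K) ≃ₗ[K] (Ix α β → K)} : g ∈ gI hF α β ↔ ∀ u v, HB hF α β (g u) (g v) = HB hF α β u v :=
  Iff.rfl

theorem bp_mem_gI (π : Perm α) : (bp π : (Ix α β → K) ≃ₗ[K] (Ix α β → K)) ∈ gI hF α β := by
  intro u v
  unfold HB
  simp only [bp_inl, bp_inr]
  congr 1
  exact Equiv.sum_comp π⁻¹ (fun i => H2 hF (fun s => u (Sum.inl (i, s))) (fun s => v (Sum.inl (i, s))))

theorem J_mem_gI {p : Pa K α β} (h1 : ∀ i, p.1 i ∈ g2 hF) (h2 : ∀ j, p.2 j ^ (q + 1) = 1) : J p ∈ gI hF α β := by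
  intro u v
  unfold HB
  congr 1
  · exact Finset.sum_congr rfl fun i _ => h1 i _ _
  · refine Finset.sum_congr rfl fun j _ => ?_
    rw [J_inr, J_inr, map_mul, frob_apply hF (p.2 j : K)]
    have h : (p.2 j : K) ^ q * (p.2 j : K) = 1 := by
      rw [← pow_succ, ← Units.val_pow_eq_pow_val, h2, Units.val_one]
    linear_combination (frob hF (u (Sum.inr j)) * v (Sum.inr j)) * h

theorem of_J_mem_gI [DecidableEq α] [DecidableEq β] {p : Pa K α β} (h : J p ∈ gI hF α β) :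
    (∀ i, p.1 i ∈ g2 hF) ∧ ∀ j, p.2 j ^ (q + 1) = 1 := by
  constructor
  · intro i x y
    have h1 := h (emb β i x) (emb β i y)
    have e : ∀ w : Fin 2 → K, ∀ i', (fun s => emb β i w (Sum.inl (i', s))) = if i' = i then w else 0 := by
      intro w i'
      funext s
      split_ifs with hi
      · subst hi; rw [emb_same]
      · rw [emb_ne hi]; rfl
    have z1 : ∀ w : Fin 2 → K, H2 hF 0 w = 0 := by intro w; simp [H2]
    have key : ∀ x y : Fin 2 → K, HB hF α β (emb β i x) (emb β i y) = H2 hF x y := by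
      intro x y
      unfold HB
      rw [Finset.sum_eq_single i]
      · rw [e x, e y, if_pos rfl, if_pos rfl]
        simp [emb_inr]
      · intro b _ hb
        rw [e x, if_neg hb, z1]
      · intro h'
        exact absurd (Finset.mem_univ _) h'
    have key2 : ∀ x : Fin 2 → K, J p (emb β i x) = emb β i (p.1 i x) := by
      intro x
      funext o
      rcases o with (⟨i', s⟩ | j)
      · rw [J_inl, e x]
        by_cases hi : i' = i
        · subst hi; rw [if_pos rfl, emb_same]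
        · rw [if_neg hi, emb_ne hi, map_zero]; rfl
      · rw [J_inr, emb_inr, emb_inr, mul_zero]
    rw [key2, key2, key, key] at h1
    exact h1
  · intro j
    have h1 := h (Pi.single (Sum.inr j) 1) (Pi.single (Sum.inr j) 1)
    have e0 : ∀ c : K, ∀ i', (fun s => (Pi.single (Sum.inr j) c : Ix α β → K) (Sum.inl (i', s))) = 0 := by
      intro c i'
      funext s
      simp
    have z1 : ∀ w : Fin 2 → K, H2 hF 0 w = 0 := by intro w; simp [H2]
    have key : ∀ c : K, HB hF α β (Pi.single (Sum.inr j) c) (Pi.single (Sum.inr j) c) = frob hF c * c := by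
      intro c
      unfold HB
      rw [Finset.sum_eq_zero (fun i _ => by rw [e0, z1]), zero_add, Finset.sum_eq_single j]
      · simp
      · intro b _ hb
        simp [hb]
      · intro h'
        exact absurd (Finset.mem_univ _) h'
    have key2 : J p (Pi.single (Sum.inr j) 1) = Pi.single (Sum.inr j) (p.2 j : K) := by
      funext o
      rcases o with (⟨i', s⟩ | j')
      · rw [J_inl, e0, map_zero]
        simp
      · rw [J_inr]
        by_cases hj : j' = j
        · subst hj; simp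
        · simp [hj]
    rw [key2, key, key, map_one, mul_one, frob_apply, ← pow_succ, ← Units.val_pow_eq_pow_val] at h1
    exact Units.ext (by rw [h1, Units.val_one])

/-- the torus acts by isometries -/
theorem tor_mem_g2 (x : Kˣ) : tor q x ∈ g2 hF := by
  intro u v
  have hx : frob hF (x : K) * (((x ^ q)⁻¹ : Kˣ) : K) = 1 := by
    rw [frob_apply, ← Units.val_pow_eq_pow_val, ← Units.val_mul, mul_inv_cancel, Units.val_one]
  have hx' : frob hF (((x ^ q)⁻¹ : Kˣ) : K) * (x : K) = 1 := by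
    have h2 := congrArg (frob hF) hx
    rw [map_mul, frob_frob, map_one, mul_comm] at h2
    exact h2
  unfold H2
  rw [tor_apply, dg_apply, dg_apply, dg_apply, dg_apply, map_mul, map_mul]
  simp only [Matrix.cons_val_zero, Matrix.cons_val_one]
  linear_combination (frob hF (u 1) * v 0) * hx' + (frob hF (u 0) * v 1) * hx

theorem det_tor (x : Kˣ) : LinearEquiv.det (tor q x : G2 K) = x * (x ^ q)⁻¹ := by
  rw [tor_apply, det_dg, Fin.prod_univ_two]
  rfl

include hF in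
/-- norm one elements are determinants of torus elements -/
theorem exists_tor_det {y : Kˣ} (hy : y ^ (q + 1) = 1) : ∃ x : Kˣ, x * (x ^ q)⁻¹ = y := by
  have hq1 : 1 < q := two_le hF
  obtain ⟨ζ, hζ⟩ := IsCyclic.exists_generator (α := Kˣ)
  obtain ⟨j, rfl⟩ := Subgroup.mem_zpowers_iff.1 (hζ y)
  have ho : orderOf ζ = q ^ 2 - 1 := by
    rw [orderOf_eq_card_of_forall_mem_zpowers hζ, Nat.card_units, Nat.card_eq_fintype_card, hF]
  have h1 : ((q ^ 2 - 1 : ℕ) : ℤ) ∣ j * (q + 1) := by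
    rw [← ho]
    apply orderOf_dvd_iff_zpow_eq_one.2
    have h2 : (ζ ^ j) ^ (q + 1) = ζ ^ (j * ((q : ℤ) + 1)) := by
      rw [← zpow_natCast, ← zpow_mul]
      push_cast
      rfl
    rw [← h2]
    exact hy
  have h0 : q ^ 2 - 1 = (q + 1) * (q - 1) := by simpa using Nat.sq_sub_sq q 1
  have h3 : ((q - 1 : ℕ) : ℤ) ∣ j := by
    rw [h0] at h1
    push_cast at h1
    have h4 : ((q : ℤ) + 1) * ((q - 1 : ℕ) : ℤ) ∣ ((q : ℤ) + 1) * j := by
      rw [mul_comm ((q : ℤ) + 1) j]; exact h1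
    exact Int.dvd_of_mul_dvd_mul_left (by positivity) h4
  obtain ⟨l, rfl⟩ := h3
  refine ⟨ζ ^ (-l), ?_⟩
  rw [← zpow_natCast (ζ ^ (-l)) q, ← zpow_mul, ← zpow_neg, ← zpow_add]
  congr 1
  rw [Nat.cast_sub hq1.le]
  push_cast
  ring

/-! ### Comparison with the standard form -/

/-- the relations of `exists_hyp` -/
structure Hyp (k : G2 K) : Prop where
  h00 : hB hF (Fin 2) (k⁻¹ (Pi.single 0 1)) (k⁻¹ (Pi.single 0 1)) = 0
  h01 : hB hF (Fin 2) (k⁻¹ (Pi.single 0 1)) (k⁻¹ (Pi.single 1 1)) = 1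
  h10 : hB hF (Fin 2) (k⁻¹ (Pi.single 1 1)) (k⁻¹ (Pi.single 0 1)) = 1
  h11 : hB hF (Fin 2) (k⁻¹ (Pi.single 1 1)) (k⁻¹ (Pi.single 1 1)) = 0

theorem exists_Hyp (two : (2 : K) ≠ 0) : ∃ k : G2 K, Hyp hF k := by
  obtain ⟨k, h1, h2, h3, h4⟩ := exists_hyp hF two
  exact ⟨k, h1, h2, h3, h4⟩

variable {hF} {k : G2 K} (hk : Hyp hF k)
include hk

theorem Hyp.form (u v : Fin 2 → K) : hB hF (Fin 2) (k⁻¹ u) (k⁻¹ v) = H2 hF u v :=
  H2_single hF k hk.h00 hk.h01 hk.h10 hk.h11 u v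

theorem Hyp.g2_eq : g2 hF = (gu hF (Fin 2)).map (MulAut.conj k).toMonoidHom := by
  have kk : ∀ w, k⁻¹ (k w) = w := fun w => by rw [← LinearEquiv.mul_apply, inv_mul_cancel]; rfl
  ext g
  constructor
  · intro hg
    refine ⟨k⁻¹ * g * k, ?_, by simp only [MulEquiv.toMonoidHom_eq_coe, MonoidHom.coe_coe, MulAut.conj_apply]; group⟩
    intro u v
    change hB hF (Fin 2) (k⁻¹ (g (k u))) (k⁻¹ (g (k v))) = _
    rw [hk.form, hg, ← hk.form, kk, kk]
  · rintro ⟨h, hh, rfl⟩ u v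
    change H2 hF (k (h (k⁻¹ u))) (k (h (k⁻¹ v))) = _
    rw [← hk.form, kk, kk, hh, hk.form]

theorem Hyp.formB (u v : Ix α β → K) :
    hB hF (Ix α β) ((J (fun _ : α => k, (1 : β → Kˣ)))⁻¹ u) ((J (fun _ : α => k, (1 : β → Kˣ)))⁻¹ v) = HB hF α β u v := by
  have e : (J (fun _ : α => k, (1 : β → Kˣ)))⁻¹ = J (fun _ : α => k⁻¹, (1 : β → Kˣ)) := by
    rw [← map_inv]
    congr 1
  rw [e, hB_apply, Fintype.sum_sum_type, Fintype.sum_prod_type, HB]
  congr 1
  · refine Finset.sum_congr rfl fun i _ => ?_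
    exact hk.form _ _
  · refine Finset.sum_congr rfl fun j _ => ?_
    rw [J_inr, J_inr]
    simp

theorem Hyp.gI_eq : gI hF α β = (gu hF (Ix α β)).map (MulAut.conj (J (fun _ : α => k, (1 : β → Kˣ)))).toMonoidHom := by
  set kk := J (fun _ : α => k, (1 : β → Kˣ)) with hkk
  have hi : ∀ w, kk⁻¹ (kk w) = w := fun w => by rw [← LinearEquiv.mul_apply, inv_mul_cancel]; rfl
  ext g
  constructor
  · intro hg
    refine ⟨kk⁻¹ * g * kk, ?_, by simp only [MulEquiv.toMonoidHom_eq_coe, MonoidHom.coe_coe, MulAut.conj_apply]; group⟩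
    intro u v
    change hB hF (Ix α β) (kk⁻¹ (g (kk u))) (kk⁻¹ (g (kk v))) = _
    rw [hk.formB, hg, ← hk.formB, hi, hi]
  · rintro ⟨h, hh, rfl⟩ u v
    change HB hF α β (kk (h (kk⁻¹ u))) (kk (h (kk⁻¹ v))) = _
    rw [← hk.formB, hi, hi, hh, hk.formB]

theorem Hyp.card_g2 : Nat.card (g2 hF) = Nat.card (gu hF (Fin 2)) := by
  rw [hk.g2_eq, Nat.card_congr (Subgroup.equivMapOfInjective _ _ (MulAut.conj k).injective).symm.toEquiv]

theorem Hyp.card_gI : Nat.card (gI hF α β) = Nat.card (gu hF (Ix α β)) := by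
  rw [hk.gI_eq, Nat.card_congr (Subgroup.equivMapOfInjective _ _ (MulAut.conj _).injective).symm.toEquiv]

omit hk in
/-- `Elem` for `SU_2` -/
theorem elem_su2 (two : (2 : K) ≠ 0) : Elem ↥(gu hF (Fin 2) ⊓ (LinearEquiv.det : G2 K →* Kˣ).ker) := by
  have hp : Fact (Nat.Prime 2) := ⟨Nat.prime_two⟩
  have hf2 : Finite (G2 K) := Finite.of_injective _ DFunLike.coe_injective
  obtain ⟨P, M, D2, c0, t0, h1, h2, h3, h4, hd⟩ := pdat_gu hF two
  set G0 := gu hF (Fin 2) ⊓ (LinearEquiv.det : G2 K →* Kˣ).ker with hG0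
  let PS : Sylow 2 ↥(gu hF (Fin 2)) := Sylow.ofCard (P.subgroupOf (gu hF (Fin 2))) (by
    rw [Nat.card_congr (subgroupOfEquivOfLe h1).toEquiv, h3])
  have hPS : ¬ 2 ∣ P.relIndex (gu hF (Fin 2)) := PS.not_dvd_index
  have h5 := not_dvd_of_normal' (Q := P) (E := G0) (M := gu hF (Fin 2)) inf_le_left (by
    intro m hm e he
    refine ⟨(gu hF (Fin 2)).mul_mem ((gu hF (Fin 2)).mul_mem hm he.1) ((gu hF (Fin 2)).inv_mem hm), ?_⟩
    have h6 : LinearEquiv.det e = 1 := he.2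
    change LinearEquiv.det (m * e * m⁻¹) = 1
    rw [map_mul, map_mul, h6, mul_one, map_inv, mul_inv_cancel]) hPS
  have hpgP : IsPGroup 2 P := PS.2.of_equiv (subgroupOfEquivOfLe h1)
  have hpg : IsPGroup 2 ((P ⊓ G0).subgroupOf G0) :=
    (hpgP.to_le inf_le_left).of_equiv (subgroupOfEquivOfLe inf_le_right).symm
  let T : Sylow 2 ↥G0 := hpg.toSylow h5
  have hT : (T : Subgroup ↥G0) = (P ⊓ G0).subgroupOf G0 := rfl
  refine elem_of_lin2 T ?_
  have hle : ∀ x : ↥(P ⊓ (LinearEquiv.det : G2 K →* Kˣ).ker), (x : G2 K) ∈ G0 := fun x => ⟨h1 x.2.1, x.2.2⟩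
  let φ : ↥(P ⊓ (LinearEquiv.det : G2 K →* Kˣ).ker) →* (T : Subgroup ↥G0) :=
    { toFun := fun x => ⟨⟨x, hle x⟩, ⟨x.2.1, hle x⟩⟩
      map_one' := rfl
      map_mul' := fun _ _ => rfl }
  refine Lin2.of_surj (fun F x => sq_P0 hd F x) φ ?_
  rintro ⟨⟨y, hy⟩, hy'⟩
  exact ⟨⟨y, hy'.1, hy.2⟩, rfl⟩

/-- `Elem` for the special isometry group of the hyperbolic plane -/
theorem Hyp.elem_sg2 (two : (2 : K) ≠ 0) : Elem ↥(g2 hF ⊓ (LinearEquiv.det : G2 K →* Kˣ).ker) := by
  have hf2 : Finite (G2 K) := Finite.of_injective _ DFunLike.coe_injective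
  have e1 : g2 hF ⊓ (LinearEquiv.det : G2 K →* Kˣ).ker =
      (gu hF (Fin 2) ⊓ (LinearEquiv.det : G2 K →* Kˣ).ker).map (MulAut.conj k).toMonoidHom := by
    rw [Subgroup.map_inf _ _ _ (MulAut.conj k).injective, ← hk.g2_eq]
    congr 1
    ext g
    constructor
    · intro hg
      refine ⟨k⁻¹ * g * k, ?_, by simp only [MulEquiv.toMonoidHom_eq_coe, MonoidHom.coe_coe, MulAut.conj_apply]; group⟩
      have hg' : LinearEquiv.det g = 1 := hg
      change LinearEquiv.det (k⁻¹ * g * k) = 1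
      rw [map_mul, map_mul, hg', mul_one, map_inv, inv_mul_cancel]
    · rintro ⟨h, hh, rfl⟩
      have hg' : LinearEquiv.det h = 1 := hh
      change LinearEquiv.det (k * h * k⁻¹) = 1
      rw [map_mul, map_mul, hg', mul_one, map_inv, mul_inv_cancel]
  rw [e1]
  exact elem_congr (Subgroup.equivMapOfInjective _ _ (MulAut.conj k).injective) (elem_su2 two)

end Cfsg.Agent.H158.Sd
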