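import Mathlib
import Cfsg.Agent.H158.Sd.PsuReal

/-!
# `Frames` and `RealOnT` for the unitary groups: the main theorem (helper158, S4579, task CL-PSU)
-/

set_option autoImplicit false
set_option linter.unusedVariables false
set_option linter.unusedSectionVars false

namespace Cfsg.Agent.H158.Sd

open Subgroup Equiv
open Cfsg.Agent.FooteOdd
open Cfsg.Agent.H763 Cfsg.Agent.H763.Psa
open Cfsg.Agent.H643.Sd (Lin2 Elem)
open Cfsg.Agent.H55.Sd (Frames NCtx RealOnT)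
open Cfsg.Agent.LieClassical.GUOrder (frob frob_apply frob_frob two_le card_ker_pow)

theorem mem_normalizer_of_conj_le {S : Type*} [Group S] [Finite S] {H : Subgroup S} {n : S}
    (h : ∀ x ∈ H, n * x * n⁻¹ ∈ H) : n ∈ Subgroup.normalizer (H : Set S) := by
  rw [Subgroup.mem_normalizer_iff_map_conj_eq]
  apply Subgroup.eq_of_le_of_card_ge
  · rintro _ ⟨x, hx, rfl⟩
    exact h x hx
  · rw [Nat.card_congr (Subgroup.equivMapOfInjective H _ (MulAut.conj n).injective).symm.toEquiv]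

variable {K : Type*} [Field K] [Fintype K] {q : ℕ} (hF : Fintype.card K = q ^ 2)
variable {m r : ℕ}

theorem bp_mem_XX (π : Perm (Fin m)) : (bp π : (Ix (Fin m) (Fin r) → K) ≃ₗ[K] (Ix (Fin m) (Fin r) → K)) ∈ XX hF m r :=
  ⟨bp_mem_gI hF π, det_bp π⟩

/-- the block diagonal part of an element of `XX` -/
theorem J_of_mem_XX {p : Pa K (Fin m) (Fin r)} {π : Perm (Fin m)} (h : J p * bp π ∈ XX hF m r) :
    J p ∈ XX hF m r := by
  have h1 := (XX hF m r).mul_mem h ((XX hF m r).inv_mem (bp_mem_XX hF π))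
  rwa [mul_inv_cancel_right] at h1

/-- block permutations normalise the torus -/
theorem bp_Th {t : (Ix (Fin m) (Fin r) → K) ≃ₗ[K] (Ix (Fin m) (Fin r) → K)} (ht : t ∈ Th K q m r) (π : Perm (Fin m)) :
    bp π * t * (bp π)⁻¹ ∈ Th K q m r := by
  obtain ⟨x, y, hy, rfl, h⟩ := ht
  refine ⟨x ∘ ⇑π⁻¹, y, hy, ?_, by rw [map_mul, map_mul, h, mul_one, map_inv, mul_inv_cancel]⟩
  rw [bp_J]
  rfl

/-- sign operators commute with block diagonal operators -/
theorem sgn_J (s : Finset (Fin m)) (p : Pa K (Fin m) (Fin r)) : J p * sgn (Fin r) s = sgn (Fin r) s * J p := by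
  rw [sgn, ← map_mul, ← map_mul]
  congr 1
  refine Prod.ext (funext fun i => ?_) (by change p.2 * 1 = 1 * p.2; rw [mul_one, one_mul])
  change p.1 i * (if i ∈ s then sc (-1) else 1) = (if i ∈ s then sc (-1) else 1) * p.1 i
  split_ifs
  · rw [sc_comm]
  · rw [mul_one, one_mul]

theorem bp_sgn (s : Finset (Fin m)) (π : Perm (Fin m)) :
    bp π * sgn (Fin r) s * (bp π)⁻¹ = (sgn (Fin r) (s.map π.toEmbedding) : (Ix (Fin m) (Fin r) → K) ≃ₗ[K] _) := by
  rw [sgn, sgn, bp_J]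
  congr 1
  refine Prod.ext (funext fun i => ?_) rfl
  change (if π⁻¹ i ∈ s then sc (-1) else 1) = if i ∈ s.map π.toEmbedding then sc (-1) else 1
  have h1 : i ∈ s.map π.toEmbedding ↔ π⁻¹ i ∈ s := by
    rw [Finset.mem_map]
    constructor
    · rintro ⟨a, ha, rfl⟩
      have : π⁻¹ (π.toEmbedding a) = a := π.symm_apply_apply a
      rwa [this]
    · intro h
      exact ⟨π⁻¹ i, h, π.apply_symm_apply i⟩
  by_cases h : π⁻¹ i ∈ s
  · rw [if_pos h, if_pos (h1.2 h)]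
  · rw [if_neg h, if_neg (fun h' => h (h1.1 h'))]

section quot

variable {S : Type*} [Group S] [Finite S] (ψ : ↥(XX hF m r) →* S)

/-- the image of the torus -/
noncomputable def Tb : Subgroup S := ((Th K q m r).subgroupOf (XX hF m r)).map ψ

variable {hF}

theorem mem_Tb {z : S} : z ∈ Tb hF ψ ↔ ∃ (t : (Ix (Fin m) (Fin r) → K) ≃ₗ[K] (Ix (Fin m) (Fin r) → K)) (h : t ∈ Th K q m r),
    ψ ⟨t, Th_le hF h⟩ = z := by
  constructor
  · rintro ⟨⟨t, ht⟩, h, rfl⟩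
    exact ⟨t, h, rfl⟩
  · rintro ⟨t, h, rfl⟩
    exact ⟨⟨t, Th_le hF h⟩, h, rfl⟩

theorem Tb_comm : ∀ a ∈ Tb hF ψ, ∀ b ∈ Tb hF ψ, a * b = b * a := by
  intro a ha b hb
  obtain ⟨t, ht, rfl⟩ := (mem_Tb ψ).1 ha
  obtain ⟨u, hu, rfl⟩ := (mem_Tb ψ).1 hb
  rw [← map_mul, ← map_mul]
  congr 1
  exact Subtype.ext (Th_comm ht hu)

/-- the frame group -/
noncomputable def NE : Subgroup S := Subgroup.normalizer (Pw (Tb hF ψ) ((q ^ 2 - 1) / 2) : Set S)

variable {ψ}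

theorem exists_of_mem_NE (two : (2 : K) ≠ 0) (hmr : r = 1 ∨ (r = 0 ∧ 3 ≤ m))
    (hker : ∀ g : ↥(XX hF m r), ψ g = 1 → ∃ c : Kˣ, (g : (Ix (Fin m) (Fin r) → K) ≃ₗ[K] (Ix (Fin m) (Fin r) → K)) = sc c)
    {g : ↥(XX hF m r)} (hg : ψ g ∈ NE (hF := hF) ψ) :
    ∃ (p : Pa K (Fin m) (Fin r)) (π : Perm (Fin m)), (g : (Ix (Fin m) (Fin r) → K) ≃ₗ[K] (Ix (Fin m) (Fin r) → K)) = J p * bp π ∧
      (∀ i, p.1 i ∈ g2 hF) ∧ ∀ j, p.2 j ^ (q + 1) = 1 := by
  classical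
  have hsub : Subsingleton (Fin r) := by
    rcases hmr with rfl | ⟨rfl, -⟩ <;> infer_instance
  obtain ⟨p, π, hp⟩ := exists_J_bp two (separates hF two hmr) (g : (Ix (Fin m) (Fin r) → K) ≃ₗ[K] (Ix (Fin m) (Fin r) → K)) (by
    rintro s ⟨t, ht, hts⟩
    have h1 : ψ ⟨t, Th_le hF ht⟩ ^ ((q ^ 2 - 1) / 2) ∈ Pw (Tb hF ψ) ((q ^ 2 - 1) / 2) :=
      (mem_Pw (Tb_comm ψ)).2 ⟨_, (mem_Tb ψ).2 ⟨t, ht, rfl⟩, rfl⟩
    have h2 : (ψ g)⁻¹ * ψ ⟨t, Th_le hF ht⟩ ^ ((q ^ 2 - 1) / 2) * ψ g ∈ Pw (Tb hF ψ) ((q ^ 2 - 1) / 2) :=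
      (Subgroup.mem_normalizer_iff''.1 hg _).1 h1
    obtain ⟨u, hu, hu2⟩ := (mem_Pw (Tb_comm ψ)).1 h2
    obtain ⟨t', ht', rfl⟩ := (mem_Tb ψ).1 hu
    obtain ⟨x', y', hy', ht'e, hd'⟩ := ht'
    have h3 : ψ ((⟨t', Th_le hF ⟨x', y', hy', ht'e, hd'⟩⟩ ^ ((q ^ 2 - 1) / 2))⁻¹ *
        (g⁻¹ * ⟨t, Th_le hF ht⟩ ^ ((q ^ 2 - 1) / 2) * g)) = 1 := by
      rw [map_mul, map_mul, map_mul, map_inv, map_inv, map_pow, map_pow, hu2, inv_mul_cancel]
    obtain ⟨c, hc⟩ := hker _ h3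
    have h4 : (t' ^ ((q ^ 2 - 1) / 2))⁻¹ * ((g : (Ix (Fin m) (Fin r) → K) ≃ₗ[K] (Ix (Fin m) (Fin r) → K))⁻¹ *
        t ^ ((q ^ 2 - 1) / 2) * (g : (Ix (Fin m) (Fin r) → K) ≃ₗ[K] (Ix (Fin m) (Fin r) → K))) = sc c := hc
    have h5 : t' ^ ((q ^ 2 - 1) / 2) = sgn (Fin r) (Finset.univ.filter fun i => x' i ^ ((q ^ 2 - 1) / 2) = -1) := by
      rw [ht'e]
      exact pow_Th hF two x' y' hy'
    rw [h5, hts] at h4
    refine ⟨c, Finset.univ.filter fun i => x' i ^ ((q ^ 2 - 1) / 2) = -1, fun v => ?_⟩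
    have h6 : sgn (Fin r) s * (g : (Ix (Fin m) (Fin r) → K) ≃ₗ[K] (Ix (Fin m) (Fin r) → K)) =
        (g : (Ix (Fin m) (Fin r) → K) ≃ₗ[K] (Ix (Fin m) (Fin r) → K)) *
          (sgn (Fin r) (Finset.univ.filter fun i => x' i ^ ((q ^ 2 - 1) / 2) = -1) * sc c) := by
      rw [← h4]
      group
    have h7 := LinearEquiv.congr_fun h6 v
    change sgn (Fin r) s ((g : (Ix (Fin m) (Fin r) → K) ≃ₗ[K] (Ix (Fin m) (Fin r) → K)) v) =
      (g : (Ix (Fin m) (Fin r) → K) ≃ₗ[K] (Ix (Fin m) (Fin r) → K))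
        (sgn (Fin r) (Finset.univ.filter fun i => x' i ^ ((q ^ 2 - 1) / 2) = -1) (sc c v)) at h7
    rw [h7, sc_apply, map_smul, map_smul])
  have h8 : J p ∈ XX hF m r := J_of_mem_XX hF (π := π) (by rw [← hp]; exact g.2)
  obtain ⟨h9, h10⟩ := of_J_mem_gI hF h8.1
  exact ⟨p, π, hp, h9, h10⟩

theorem mem_NE_of (two : (2 : K) ≠ 0) {p : Pa K (Fin m) (Fin r)} {π : Perm (Fin m)} (h : J p * bp π ∈ XX hF m r) :
    ψ ⟨J p * bp π, h⟩ ∈ NE (hF := hF) ψ := by
  classical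
  apply mem_normalizer_of_conj_le
  intro w hw
  obtain ⟨u, hu, rfl⟩ := (mem_Pw (Tb_comm ψ)).1 hw
  obtain ⟨t, ht, rfl⟩ := (mem_Tb ψ).1 hu
  have ht' := ht
  obtain ⟨x, y, hy, hte, hd⟩ := ht
  refine (mem_Pw (Tb_comm ψ)).2 ⟨ψ ⟨bp π * t * (bp π)⁻¹, Th_le hF (bp_Th ht' π)⟩, (mem_Tb ψ).2 ⟨_, bp_Th ht' π, rfl⟩, ?_⟩
  have e1 : ψ ⟨J p * bp π, h⟩ * ψ ⟨t, Th_le hF ht'⟩ ^ ((q ^ 2 - 1) / 2) * (ψ ⟨J p * bp π, h⟩)⁻¹ =
      ψ (⟨J p * bp π, h⟩ * ⟨t, Th_le hF ht'⟩ ^ ((q ^ 2 - 1) / 2) * ⟨J p * bp π, h⟩⁻¹) := by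
    rw [map_mul, map_mul, map_inv, map_pow]
  refine Eq.trans ?_ e1.symm
  refine (map_pow ψ _ _).symm.trans (congrArg ψ (Subtype.ext ?_))
  change (bp π * t * (bp π)⁻¹) ^ ((q ^ 2 - 1) / 2) = J p * bp π * t ^ ((q ^ 2 - 1) / 2) * (J p * bp π)⁻¹
  rw [conj_pow, hte, pow_Th hF two x y hy, bp_sgn, mul_inv_rev]
  have h1 : J p * bp π * sgn (Fin r) (Finset.univ.filter fun i => x i ^ ((q ^ 2 - 1) / 2) = -1) * ((bp π)⁻¹ * (J p)⁻¹) =
      J p * (bp π * sgn (Fin r) (Finset.univ.filter fun i => x i ^ ((q ^ 2 - 1) / 2) = -1) * (bp π)⁻¹) * (J p)⁻¹ := by group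
  rw [h1, bp_sgn, sgn_J, mul_inv_cancel_right]

/-- the blocks of determinant 1 -/
noncomputable def lam (ψ : ↥(XX hF m r) →* S) (i : Fin m) : ↥(g2 hF ⊓ (LinearEquiv.det : G2 K →* Kˣ).ker) →* S :=
  ψ.comp
    { toFun := fun x => ⟨J (sg (β := Fin r) i (x : G2 K)), J_mem_gI hF (fun i' => by
          change (Pi.mulSingle i (x : G2 K) : Fin m → G2 K) i' ∈ _
          rw [Pi.mulSingle_apply]; split_ifs
          · exact x.2.1
          · exact one_mem _) (fun j => by change (1 : Kˣ) ^ (q + 1) = 1; rw [one_pow]), by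
          change LinearEquiv.det (J (sg (β := Fin r) i (x : G2 K))) = 1
          rw [det_sg]; exact x.2.2⟩
      map_one' := Subtype.ext (by
        change J (sg (β := Fin r) i (1 : G2 K)) = 1
        rw [sg_one, map_one])
      map_mul' := fun x y => Subtype.ext (by
        change J (sg (β := Fin r) i ((x : G2 K) * (y : G2 K))) = J (sg (β := Fin r) i (x : G2 K)) * J (sg (β := Fin r) i (y : G2 K))
        rw [sg_mul, map_mul]) }

theorem mem_range_lam {i : Fin m} {z : S} : z ∈ (lam ψ i).range ↔ ∃ (x : G2 K) (h : J (sg (β := Fin r) i x) ∈ XX hF m r),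
    x ∈ g2 hF ∧ LinearEquiv.det x = 1 ∧ ψ ⟨J (sg (β := Fin r) i x), h⟩ = z := by
  constructor
  · rintro ⟨x, rfl⟩
    exact ⟨x, _, x.2.1, x.2.2, rfl⟩
  · rintro ⟨x, h, h1, h2, rfl⟩
    exact ⟨⟨x, h1, h2⟩, rfl⟩

/-- block diagonal elements are products of elements of the blocks of determinant 1 and torus elements -/
theorem J_split {p : Pa K (Fin m) (Fin r)} (h : J p ∈ XX hF m r) :
    ∃ e ∈ ⨆ i, (lam ψ i).range, ∃ t ∈ Tb hF ψ, ψ ⟨J p, h⟩ = e * t := by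
  obtain ⟨h1, h2⟩ := of_J_mem_gI hF h.1
  have hdet : ∀ i, (LinearEquiv.det (p.1 i)) ^ (q + 1) = 1 := by
    intro i
    have hJ : J (sg (β := Fin r) i (p.1 i)) ∈ gI hF (Fin m) (Fin r) := J_mem_gI hF (fun i' => by
          change (Pi.mulSingle i (p.1 i) : Fin m → G2 K) i' ∈ _
          rw [Pi.mulSingle_apply]; split_ifs
          · exact h1 i
          · exact one_mem _) (fun j => by change (1 : Kˣ) ^ (q + 1) = 1; rw [one_pow])
    -- determinants of isometries of the hyperbolic plane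
    have hg := h1 i
    set g := p.1 i with hgdef
    have a0 : ∀ u v, frob hF (g u 1) * g v 0 + frob hF (g u 0) * g v 1 = frob hF (u 1) * v 0 + frob hF (u 0) * v 1 :=
      fun u v => hg u v
    have b00 := a0 (Pi.single 0 1) (Pi.single 0 1)
    have b01 := a0 (Pi.single 0 1) (Pi.single 1 1)
    have b10 := a0 (Pi.single 1 1) (Pi.single 0 1)
    have b11 := a0 (Pi.single 1 1) (Pi.single 1 1)
    simp only [Pi.single_eq_same, ne_eq, one_ne_zero, not_false_eq_true, Pi.single_eq_of_ne, zero_ne_one, map_one,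
      map_zero, mul_one, mul_zero, zero_mul, add_zero, zero_add] at b00 b01 b10 b11
    have hd : ((LinearEquiv.det g : Kˣ) : K) = g (Pi.single 0 1) 0 * g (Pi.single 1 1) 1 - g (Pi.single 1 1) 0 * g (Pi.single 0 1) 1 := by
      rw [LinearEquiv.coe_det]
      rw [← LinearMap.det_toMatrix (Pi.basisFun K (Fin 2)), Matrix.det_fin_two]
      simp only [LinearMap.toMatrix_apply, Pi.basisFun_apply, Pi.basisFun_repr, LinearEquiv.coe_coe]
    apply Units.ext
    rw [Units.val_pow_eq_pow_val, Units.val_one, pow_succ, ← frob_apply hF, hd, map_sub, map_mul, map_mul]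
    linear_combination (frob hF (g (Pi.single 1 1) 1) * g (Pi.single 0 1) 0 +
      frob hF (g (Pi.single 1 1) 0) * g (Pi.single 0 1) 1) * b01 + b10 -
      (frob hF (g (Pi.single 1 1) 1) * g (Pi.single 1 1) 0 + frob hF (g (Pi.single 1 1) 0) * g (Pi.single 1 1) 1) * b00
  choose x hx using fun i => exists_tor_det hF (hdet i)
  let c : Pa K (Fin m) (Fin r) := (fun i => tor q (x i), p.2)
  have hc : J c ∈ Th K q m r := by
    refine ⟨x, p.2, h2, rfl, ?_⟩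
    have h3 : LinearEquiv.det (J p) = 1 := h.2
    rw [det_J] at h3 ⊢
    rw [← h3]
    congr 1
    exact Finset.prod_congr rfl fun i _ => by rw [← hx i]; exact det_tor (x i)
  have hcX := Th_le hF hc
  have hb : J (p * c⁻¹) ∈ XX hF m r := by
    rw [map_mul, map_inv]
    exact (XX hF m r).mul_mem h ((XX hF m r).inv_mem hcX)
  refine ⟨ψ ⟨J (p * c⁻¹), hb⟩, ?_, ψ ⟨J c, hcX⟩, (mem_Tb ψ).2 ⟨_, hc, rfl⟩, ?_⟩
  · -- the product of the blocks
    have hy : ∀ i, p.1 i * (tor q (x i))⁻¹ ∈ g2 hF ⊓ (LinearEquiv.det : G2 K →* Kˣ).ker := by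
      intro i
      refine ⟨(g2 hF).mul_mem (h1 i) ((g2 hF).inv_mem (tor_mem_g2 hF _)), ?_⟩
      change LinearEquiv.det (p.1 i * (tor q (x i))⁻¹) = 1
      rw [map_mul, map_inv, det_tor, hx i, mul_inv_cancel]
    let SH := ↥(g2 hF ⊓ (LinearEquiv.det : G2 K →* Kˣ).ker)
    let Φ : (Fin m → SH) →* ↥(XX hF m r) :=
      { toFun := fun y => ⟨J (fun i => (y i : G2 K), (1 : Fin r → Kˣ)), J_mem_gI hF (fun i => (y i).2.1)
          (fun j => by change (1 : Kˣ) ^ (q + 1) = 1; rw [one_pow]), by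
          change LinearEquiv.det (J (fun i => (y i : G2 K), (1 : Fin r → Kˣ))) = 1
          rw [det_J]
          have : ∀ i, LinearEquiv.det ((y i : G2 K)) = 1 := fun i => (y i).2.2
          simp [this]⟩
        map_one' := Subtype.ext (by
          change J ((fun _ => (1 : G2 K)), (1 : Fin r → Kˣ)) = 1
          exact map_one J)
        map_mul' := fun y z => Subtype.ext (by
          change J (fun i => (y i : G2 K) * (z i : G2 K), (1 : Fin r → Kˣ)) = J (fun i => (y i : G2 K), 1) * J (fun i => (z i : G2 K), 1)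
          rw [← map_mul]
          congr 1
          exact Prod.ext rfl (mul_one _).symm) }
    have hΦ : ∀ y : Fin m → SH, y ∈ (⨆ i, (lam ψ i).range).comap (ψ.comp Φ) := by
      intro y
      refine Subgroup.pi_mem_of_mulSingle_mem y fun i => ?_
      rw [Subgroup.mem_comap]
      refine (le_iSup (fun i => (lam ψ i).range) i) ⟨y i, ?_⟩
      change ψ _ = ψ _
      congr 1
      apply Subtype.ext
      change J (sg (β := Fin r) i (y i : G2 K)) = J (fun i' => ((Pi.mulSingle i (y i) : Fin m → SH) i' : G2 K), (1 : Fin r → Kˣ))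
      congr 1
      refine Prod.ext (funext fun i' => ?_) rfl
      change (Pi.mulSingle i (y i : G2 K) : Fin m → G2 K) i' = ((Pi.mulSingle i (y i) : Fin m → SH) i' : G2 K)
      by_cases h : i' = i
      · subst h; rw [Pi.mulSingle_eq_same, Pi.mulSingle_eq_same]
      · rw [Pi.mulSingle_eq_of_ne h, Pi.mulSingle_eq_of_ne h]; rfl
    have h4 := hΦ fun i => ⟨p.1 i * (tor q (x i))⁻¹, hy i⟩
    rw [Subgroup.mem_comap] at h4
    convert h4 using 1
    change ψ _ = ψ _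
    congr 1
    apply Subtype.ext
    change J (p * c⁻¹) = J (fun i => p.1 i * (tor q (x i))⁻¹, (1 : Fin r → Kˣ))
    congr 1
    exact Prod.ext rfl (mul_inv_cancel p.2)
  · rw [← map_mul]
    congr 1
    apply Subtype.ext
    change J p = J (p * c⁻¹) * J c
    rw [← map_mul, inv_mul_cancel_right]

/-- the index of the frame group is odd -/
theorem odd_index_NE (two : (2 : K) ≠ 0) (hm : 1 ≤ m) (hr : r ≤ 1) (hψ : Function.Surjective ψ) :
    ¬ 2 ∣ (NE (hF := hF) ψ).index := by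
  have hf2 : Finite (G2 K) := Finite.of_injective _ DFunLike.coe_injective
  have hfL : Finite ((Ix (Fin m) (Fin r) → K) ≃ₗ[K] (Ix (Fin m) (Fin r) → K)) := Finite.of_injective _ DFunLike.coe_injective
  have hne : Nonempty (Fin m) := ⟨⟨0, hm⟩⟩
  obtain ⟨k, hk⟩ := exists_Hyp hF two
  set D : Subgroup Kˣ := (powMonoidHom (q + 1) : Kˣ →* Kˣ).ker with hD
  set RR := R (β := Fin r) (g2 hF) D (⊤ : Subgroup (Perm (Fin m))) with hRR
  have hRle : RR ≤ gI hF (Fin m) (Fin r) := by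
    rintro _ ⟨p, π, -, h1, h2, rfl⟩
    exact (gI hF (Fin m) (Fin r)).mul_mem (J_mem_gI hF h1 h2) (bp_mem_gI hF π)
  have hcard : (Nat.card RR).factorization 2 = (Nat.card (gI hF (Fin m) (Fin r))).factorization 2 := by
    have h4 := (guSys hF two m r hr).h4
    have hL : Nat.card (guSys hF two m r hr).L = Nat.card (gu hF (Ix (Fin m) (Fin r))) := rfl
    have hL2 : Nat.card (guSys hF two m r hr).L2 = Nat.card (gu hF (Fin 2)) := rfl
    have hDD : Nat.card (guSys hF two m r hr).D = Nat.card D := rfl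
    rw [hL, hL2, hDD] at h4
    rw [hk.card_gI, h4, hRR, card_R, hk.card_g2]
    have c1 : Nat.card (gu hF (Fin 2)) ≠ 0 := Nat.card_pos.ne'
    have c2 : Nat.card D ≠ 0 := Nat.card_pos.ne'
    have c3 : Nat.card (Perm (Fin m)) ≠ 0 := Nat.card_pos.ne'
    rw [card_top, Nat.factorization_mul (mul_ne_zero (pow_ne_zero _ c1) (pow_ne_zero _ c2)) c3,
      Nat.factorization_mul (pow_ne_zero _ c1) (pow_ne_zero _ c2), Nat.factorization_pow, Nat.factorization_pow,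
      Finsupp.add_apply, Finsupp.add_apply, Finsupp.smul_apply, Finsupp.smul_apply, smul_eq_mul, smul_eq_mul]
    ring
  have hidx : ¬ 2 ∣ RR.relIndex (gI hF (Fin m) (Fin r)) := by
    have h1 : RR.relIndex (gI hF (Fin m) (Fin r)) * Nat.card RR = Nat.card (gI hF (Fin m) (Fin r)) := by
      rw [mul_comm, ← (RR.subgroupOf (gI hF (Fin m) (Fin r))).card_mul_index,
        Nat.card_congr (subgroupOfEquivOfLe hRle).toEquiv]
      rfl
    have h0 : RR.relIndex (gI hF (Fin m) (Fin r)) ≠ 0 := by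
      intro h; rw [h, zero_mul] at h1; exact Nat.card_pos.ne h1
    have h2 : (RR.relIndex (gI hF (Fin m) (Fin r)) * Nat.card RR).factorization 2 =
        (Nat.card (gI hF (Fin m) (Fin r))).factorization 2 := by rw [h1]
    rw [Nat.factorization_mul h0 Nat.card_pos.ne', Finsupp.add_apply, hcard] at h2
    have h3 : (RR.relIndex (gI hF (Fin m) (Fin r))).factorization 2 = 0 := by omega
    intro h
    have := (Nat.Prime.dvd_iff_one_le_factorization Nat.prime_two h0).1 h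
    omega
  have h5 := not_dvd_of_normal' (Q := RR) (E := XX hF m r) (M := gI hF (Fin m) (Fin r)) inf_le_left (by
    intro n hn e he
    refine ⟨(gI hF (Fin m) (Fin r)).mul_mem ((gI hF (Fin m) (Fin r)).mul_mem hn he.1) ((gI hF (Fin m) (Fin r)).inv_mem hn), ?_⟩
    have h6 : LinearEquiv.det e = 1 := he.2
    change LinearEquiv.det (n * e * n⁻¹) = 1
    rw [map_mul, map_mul, h6, mul_one, map_inv, mul_inv_cancel]) hidx
  intro h
  apply h5
  refine h.trans (dvd_trans ?_ (index_map_dvd _ hψ))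
  apply index_dvd_of_le
  rintro _ ⟨⟨g, hg⟩, hg', rfl⟩
  obtain ⟨p, π, -, -, -, rfl⟩ := hg'.1
  exact mem_NE_of two hg

/-- **Main theorem**: `Frames` and `RealOnT`. -/
theorem frames_real {U : Subgroup S} (two : (2 : K) ≠ 0) (hm : 1 ≤ m) (hmr : r = 1 ∨ (r = 0 ∧ 3 ≤ m)) (hψ : Function.Surjective ψ)
    (hker : ∀ g : ↥(XX hF m r), ψ g = 1 → ∃ c : Kˣ, (g : (Ix (Fin m) (Fin r) → K) ≃ₗ[K] (Ix (Fin m) (Fin r) → K)) = sc c) :
    Frames (Tb hF ψ) {NE (hF := hF) ψ} ∧ RealOnT U (Tb hF ψ) {NE (hF := hF) ψ} := by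
  have hf2 : Finite (G2 K) := Finite.of_injective _ DFunLike.coe_injective
  have hr : r ≤ 1 := by rcases hmr with rfl | ⟨rfl, -⟩ <;> omega
  have hodd := odd_index_NE (hF := hF) (ψ := ψ) two hm hr hψ
  refine ⟨frames_Pw hodd, ?_⟩
  intro Q A hctx f hf x
  obtain ⟨k, hk⟩ := exists_Hyp hF two
  have hQM : (Q : Subgroup S) ≤ NE (hF := hF) ψ := by
    obtain ⟨M, hM, hQM⟩ := hctx.frame
    rwa [Set.mem_singleton_iff.1 hM] at hQM
  -- the group of block permutations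
  let bX : Perm (Fin m) →* ↥(XX hF m r) := (bp : Perm (Fin m) →* _).codRestrict (XX hF m r) (bp_mem_XX hF)
  have hbN : ∀ π, ψ (bX π) ∈ Subgroup.normalizer (Tb hF ψ : Set S) := by
    intro π
    apply mem_normalizer_of_conj_le
    intro w hw
    obtain ⟨t, ht, rfl⟩ := (mem_Tb ψ).1 hw
    refine (mem_Tb ψ).2 ⟨bp π * t * (bp π)⁻¹, bp_Th ht π, ?_⟩
    have e1 : ψ (bX π) * ψ ⟨t, Th_le hF ht⟩ * (ψ (bX π))⁻¹ = ψ (bX π * ⟨t, Th_le hF ht⟩ * (bX π)⁻¹) := by
      rw [map_mul, map_mul, map_inv]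
    exact Eq.trans (congrArg ψ (Subtype.ext rfl)) e1.symm
  -- conjugation of the `L i`
  have hconj : ∀ (g : ↥(XX hF m r)), ψ g ∈ NE (hF := hF) ψ → ∀ i, ∀ e ∈ (lam ψ i).range,
      ψ g * e * (ψ g)⁻¹ ∈ ⨆ i, (lam ψ i).range := by
    intro g hg i e he
    obtain ⟨p, π, hp, h1, h2⟩ := exists_of_mem_NE two hmr hker hg
    obtain ⟨y, hy, hy1, hy2, rfl⟩ := mem_range_lam.1 he
    refine (le_iSup (fun i => (lam ψ i).range) (π i)) ?_
    have e1 : ψ g * ψ ⟨J (sg (β := Fin r) i y), hy⟩ * (ψ g)⁻¹ = ψ (g * ⟨J (sg (β := Fin r) i y), hy⟩ * g⁻¹) := by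
      rw [map_mul, map_mul, map_inv]
    have e2 : (g : (Ix (Fin m) (Fin r) → K) ≃ₗ[K] (Ix (Fin m) (Fin r) → K)) * J (sg (β := Fin r) i y) *
        (g : (Ix (Fin m) (Fin r) → K) ≃ₗ[K] (Ix (Fin m) (Fin r) → K))⁻¹ = J (sg (β := Fin r) (π i) (p.1 (π i) * y * (p.1 (π i))⁻¹)) := by
      rw [hp, cj_spec]
      congr 1
      refine Prod.ext (funext fun l => ?_) rfl
      change p.1 l * (Pi.mulSingle i y : Fin m → G2 K) (π⁻¹ l) * (p.1 l)⁻¹ =
        (Pi.mulSingle (π i) (p.1 (π i) * y * (p.1 (π i))⁻¹) : Fin m → G2 K) l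
      by_cases h : l = π i
      · subst h
        have : π⁻¹ (π i) = i := π.symm_apply_apply i
        rw [this, Pi.mulSingle_eq_same, Pi.mulSingle_eq_same]
      · have h' : π⁻¹ l ≠ i := fun h3 => h (by rw [← h3]; exact (π.apply_symm_apply l).symm)
        rw [Pi.mulSingle_eq_of_ne h, Pi.mulSingle_eq_of_ne h', mul_one, mul_inv_cancel]
    have e3 : J (sg (β := Fin r) (π i) (p.1 (π i) * y * (p.1 (π i))⁻¹)) ∈ XX hF m r := by
      rw [← e2]
      exact (XX hF m r).mul_mem ((XX hF m r).mul_mem g.2 hy) ((XX hF m r).inv_mem g.2)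
    refine mem_range_lam.2 ⟨p.1 (π i) * y * (p.1 (π i))⁻¹, e3,
      (g2 hF).mul_mem ((g2 hF).mul_mem (h1 _) hy1) ((g2 hF).inv_mem (h1 _)), ?_, ?_⟩
    · rw [map_mul, map_mul, hy2, mul_one, map_inv, mul_inv_cancel]
    · rw [e1]
      exact congrArg ψ (Subtype.ext e2.symm)
  have hLM : ∀ i, (lam ψ i).range ≤ NE (hF := hF) ψ := by
    intro i z hz
    obtain ⟨y, hy, hy1, hy2, rfl⟩ := mem_range_lam.1 hz
    have e1 : J (sg (β := Fin r) i y) = J (sg (β := Fin r) i y) * (bp (1 : Perm (Fin m)) : (Ix (Fin m) (Fin r) → K) ≃ₗ[K] _) := by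
      rw [map_one, mul_one]
    have h2 : J (sg (β := Fin r) i y) * (bp (1 : Perm (Fin m)) : (Ix (Fin m) (Fin r) → K) ≃ₗ[K] _) ∈ XX hF m r := e1 ▸ hy
    have h3 := mem_NE_of (ψ := ψ) two h2
    have h4 : ψ ⟨J (sg (β := Fin r) i y), hy⟩ = ψ ⟨J (sg (β := Fin r) i y) * bp 1, h2⟩ := congrArg ψ (Subtype.ext e1)
    rw [h4]
    exact h3
  -- decomposition of the elements of the frame group
  have hdec : ∀ z ∈ NE (hF := hF) ψ, ∃ e ∈ ⨆ i, (lam ψ i).range, ∃ t ∈ Tb hF ψ, ∃ π, z = e * t * ψ (bX π) := by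
    intro z hz
    obtain ⟨g, rfl⟩ := hψ z
    obtain ⟨p, π, hp, h1, h2⟩ := exists_of_mem_NE two hmr hker hz
    have hJ : J p ∈ XX hF m r := J_of_mem_XX hF (π := π) (by rw [← hp]; exact g.2)
    obtain ⟨e, he, t, ht, h3⟩ := J_split (ψ := ψ) hJ
    refine ⟨e, he, t, ht, π, ?_⟩
    rw [← h3, ← map_mul]
    exact congrArg ψ (Subtype.ext hp)
  refine frame_lemma (T := Tb hF ψ) (N := Subgroup.normalizer (Tb hF ψ : Set S)) (M := NE (hF := hF) ψ)
    (Γ := (ψ.comp bX).range) (Q := (Q : Subgroup S)) (L := fun i => (lam ψ i).range)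
    Subgroup.le_normalizer (fun n hn t ht => (Subgroup.mem_normalizer_iff.1 hn t).1 ht) normalizer_le_normalizer_Pw
    hLM ?_ ?_ ?_ ?_ ?_ ?_ ?_ Q.2 hQM ?_ ?_ f hf x
  · -- the `L i` commute
    rintro i j hij z hz w hw
    obtain ⟨y, hy, -, -, rfl⟩ := mem_range_lam.1 hz
    obtain ⟨y', hy', -, -, rfl⟩ := mem_range_lam.1 hw
    rw [← map_mul, ← map_mul]
    refine congrArg ψ (Subtype.ext ?_)
    change J (sg (β := Fin r) i y) * J (sg (β := Fin r) j y') = J (sg (β := Fin r) j y') * J (sg (β := Fin r) i y)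
    rw [← map_mul, ← map_mul]
    congr 1
    refine Prod.ext (funext fun l => ?_) rfl
    change (Pi.mulSingle i y : Fin m → G2 K) l * (Pi.mulSingle j y' : Fin m → G2 K) l =
      (Pi.mulSingle j y' : Fin m → G2 K) l * (Pi.mulSingle i y : Fin m → G2 K) l
    by_cases h : l = i
    · rw [Pi.mulSingle_eq_of_ne (show l ≠ j from fun h' => hij (h.symm.trans h')), mul_one, one_mul]
    · rw [Pi.mulSingle_eq_of_ne h, mul_one, one_mul]
  · intro i
    exact elem_of_surj (lam ψ i).rangeRestrict (lam ψ i).rangeRestrict_surjective (hk.elem_sg2 two)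
  · -- `M` normalises the product of the `L i`
    intro z hz e he
    obtain ⟨g, rfl⟩ := hψ z
    have h1 : (⨆ i, (lam ψ i).range) ≤ (⨆ i, (lam ψ i).range).comap (MulAut.conj (ψ g)).toMonoidHom :=
      iSup_le fun i y hy => hconj g hz i y hy
    exact h1 he
  · -- `M = E N`
    intro z hz
    obtain ⟨e, he, t, ht, π, rfl⟩ := hdec z hz
    exact ⟨e, he, t * ψ (bX π), mul_mem (Subgroup.le_normalizer ht) (hbN π), by rw [mul_assoc]⟩
  · rintro _ ⟨π, rfl⟩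
    exact hbN π
  · refine elem_of_surj (ψ.comp bX).rangeRestrict (ψ.comp bX).rangeRestrict_surjective ?_
    exact elem_of_lin2 (default : Sylow 2 (Perm (Fin m))) (lin2_sylow_perm m _)
  · intro n hn
    obtain ⟨e, he, t, ht, π, h⟩ := hdec n (normalizer_le_normalizer_Pw hn)
    refine ⟨e * t, ⟨?_, mul_mem ((le_sup_left : (⨆ i, (lam ψ i).range) ≤ _) he) ((le_sup_right : Tb hF ψ ≤ _) ht)⟩,
      ψ (bX π), ⟨π, rfl⟩, h⟩
    have h2 : e * t = n * (ψ (bX π))⁻¹ := by rw [h, mul_inv_cancel_right]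
    rw [h2]
    exact (Subgroup.normalizer (Tb hF ψ : Set S)).mul_mem hn ((Subgroup.normalizer (Tb hF ψ : Set S)).inv_mem (hbN π))
  · exact fun h => Q.not_dvd_index (h.trans (relIndex_dvd_index_of_le hQM))
  · rw [← even_iff_two_dvd, Nat.not_even_iff_odd]
    exact hctx.sylN

end quot

end Cfsg.Agent.H158.Sd
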