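import Mathlib
import Cfsg.Agent.H158.Sd.PsuMain
import Cfsg.Agent.H835.Sd.Model

/-!
# `Frames` and `RealOnT` for `PSU_n(q)` in the antidiagonal model (helper158, S4579, task CL-PSU)
-/

set_option autoImplicit false
set_option linter.unusedVariables false
set_option linter.unusedSectionVars false

namespace Cfsg.Agent.H158.Sd

open Subgroup Equiv
open Cfsg.Agent.FooteOdd
open Cfsg.Agent.H763 Cfsg.Agent.H763.Psa
open Cfsg.Agent.H643.Sd (Lin2 Elem)
open Cfsg.Agent.H55.Sd (Frames NCtx RealOnT)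
open Cfsg.Agent.H835.Sd (sh sh_apply GUJ SUJ mem_GUJ mem_GUJ' mem_SUJ Dia mem_Dia TS US)
open Cfsg.Agent.LieClassical.GUOrder (frob frob_apply frob_frob two_le card_ker_pow)
open Cfsg.Agent.LieClassical.SUBasic (mem_center_SU_iff suScalar)
open Matrix (SpecialLinearGroup)

section coords

variable {m r n : ℕ}

/-- the coordinates -/
def fIx (h : 2 * m + r = n) : Ix (Fin m) (Fin r) → Fin n :=
  Sum.elim (fun p => if p.2 = 0 then ⟨p.1, by omega⟩ else Fin.rev ⟨p.1, by omega⟩) (fun j => ⟨m, by have := j.2; omega⟩)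

theorem fIx_bij (h : 2 * m + r = n) (hr : r ≤ 1) : Function.Bijective (fIx h) := by
  rw [Fintype.bijective_iff_injective_and_card]
  constructor
  · rintro (⟨i, k⟩ | j) (⟨i', k'⟩ | j') hh
    · have hi := i.2
      have hi' := i'.2
      have h0 := congrArg Fin.val hh
      simp only [fIx, Sum.elim_inl] at h0
      by_cases hk : k = 0 <;> by_cases hk' : k' = 0
      · rw [if_pos hk, if_pos hk'] at h0
        rw [hk, hk']
        congr 2
        exact Fin.ext h0
      · rw [if_pos hk, if_neg hk', Fin.val_rev] at h0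
        simp only at h0
        omega
      · rw [if_neg hk, if_pos hk', Fin.val_rev] at h0
        simp only at h0
        omega
      · rw [if_neg hk, if_neg hk', Fin.val_rev, Fin.val_rev] at h0
        simp only at h0
        have e1 : k = k' := by omega
        have e2 : i = i' := Fin.ext (by omega)
        rw [e1, e2]
    · have hi := i.2
      have hj := j'.2
      have h0 := congrArg Fin.val hh
      simp only [fIx, Sum.elim_inl, Sum.elim_inr] at h0
      by_cases hk : k = 0
      · rw [if_pos hk] at h0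
        simp only at h0
        omega
      · rw [if_neg hk, Fin.val_rev] at h0
        simp only at h0
        omega
    · have hi := i'.2
      have hj := j.2
      have h0 := congrArg Fin.val hh
      simp only [fIx, Sum.elim_inl, Sum.elim_inr] at h0
      by_cases hk : k' = 0
      · rw [if_pos hk] at h0
        simp only at h0
        omega
      · rw [if_neg hk, Fin.val_rev] at h0
        simp only at h0
        omega
    · have hj := j.2
      have hj' := j'.2
      congr 1
      exact Fin.ext (by omega)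
  · simp
    omega

/-- the coordinates -/
noncomputable def eIx (h : 2 * m + r = n) (hr : r ≤ 1) : Ix (Fin m) (Fin r) ≃ Fin n := Equiv.ofBijective _ (fIx_bij h hr)

theorem eIx_rev (h : 2 * m + r = n) (hr : r ≤ 1) (i : Fin m) : eIx h hr (Sum.inl (i, 1)) = (eIx h hr (Sum.inl (i, 0))).rev := by
  rw [eIx, Equiv.ofBijective_apply, Equiv.ofBijective_apply]
  simp [fIx]

theorem eIx_rev' (h : 2 * m + r = n) (hr : r ≤ 1) (j : Fin r) : eIx h hr (Sum.inr j) = (eIx h hr (Sum.inr j)).rev := by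
  rw [eIx, Equiv.ofBijective_apply]
  have := j.2
  apply Fin.ext
  rw [Fin.val_rev]
  simp only [fIx, Sum.elim_inr]
  omega

end coords

variable {K : Type*} [Field K] [Fintype K] {q : ℕ} (hF : Fintype.card K = q ^ 2)
variable {m r n : ℕ}

/-! ### The centre -/

/-- central elements are scalars -/
theorem central_scalar (two : (2 : K) ≠ 0) (hr : r ≤ 1) (hn : 3 ≤ 2 * m + r)
    {g : (Ix (Fin m) (Fin r) → K) ≃ₗ[K] (Ix (Fin m) (Fin r) → K)} (hg : g ∈ XX hF m r)
    (hc : ∀ x ∈ XX hF m r, g * x = x * g) : ∃ c : Kˣ, g = sc c := by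
  obtain ⟨k, hk⟩ := exists_Hyp hF two
  have hm : Nonempty (Fin m) := ⟨⟨0, by omega⟩⟩
  have hcard : Fintype.card (Ix (Fin m) (Fin r)) = 2 * m + r := by
    simp; omega
  let e : Ix (Fin m) (Fin r) ≃ Fin (2 * m + r) := Fintype.equivFinOfCardEq hcard
  have hnn : Nonempty (Fin (2 * m + r)) := ⟨⟨0, by omega⟩⟩
  set kk := (J (fun _ : Fin m => k, (1 : Fin r → Kˣ)) : (Ix (Fin m) (Fin r) → K) ≃ₗ[K] (Ix (Fin m) (Fin r) → K)) with hkk
  have hgI : ∀ x, x ∈ gI hF (Fin m) (Fin r) ↔ kk⁻¹ * x * kk ∈ gu hF (Ix (Fin m) (Fin r)) := by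
    intro x
    rw [hk.gI_eq]
    constructor
    · rintro ⟨y, hy, rfl⟩
      have : kk⁻¹ * (kk * y * kk⁻¹) * kk = y := by group
      change kk⁻¹ * (kk * y * kk⁻¹) * kk ∈ _
      rw [this]
      exact hy
    · intro h
      exact ⟨_, h, by change kk * (kk⁻¹ * x * kk) * kk⁻¹ = x; group⟩
  have hdet : ∀ x, LinearEquiv.det (kk⁻¹ * x * kk) = LinearEquiv.det x := by
    intro x
    rw [map_mul, map_mul, map_inv, mul_comm, mul_inv_cancel_left]
  set h := kk⁻¹ * g * kk with hh
  have hh1 : h ∈ gu hF (Ix (Fin m) (Fin r)) := (hgI g).1 hg.1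
  have hh2 : h ∈ (LinearEquiv.det : ((Ix (Fin m) (Fin r) → K) ≃ₗ[K] (Ix (Fin m) (Fin r) → K)) →* Kˣ).ker := by
    change LinearEquiv.det h = 1
    rw [hh, hdet]; exact hg.2
  have hSU : toSL (reKer e ⟨h, hh2⟩) ∈ Cfsg.SU (2 * m + r) K q := by
    rw [toSL_mem_SU hF]
    exact (cjE_mem_gu hF e _).2 hh1
  have hcen : (⟨toSL (reKer e ⟨h, hh2⟩), hSU⟩ : Cfsg.SU (2 * m + r) K q) ∈ center (Cfsg.SU (2 * m + r) K q) := by
    rw [mem_center_iff]
    rintro ⟨A, hA⟩
    obtain ⟨a, rfl⟩ := toSL_surjective A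
    obtain ⟨⟨b, hb2⟩, rfl⟩ := reKer_surjective e a
    rw [toSL_mem_SU hF] at hA
    have hb1 : b ∈ gu hF (Ix (Fin m) (Fin r)) := (cjE_mem_gu hF e _).1 hA
    have hbX : kk * b * kk⁻¹ ∈ XX hF m r := by
      refine ⟨(hgI _).2 ?_, ?_⟩
      · have : kk⁻¹ * (kk * b * kk⁻¹) * kk = b := by group
        rw [this]; exact hb1
      · change LinearEquiv.det (kk * b * kk⁻¹) = 1
        have hb2' : LinearEquiv.det b = 1 := hb2
        rw [map_mul, map_mul, hb2', mul_one, map_inv, mul_inv_cancel]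
    have h1 := hc _ hbX
    have h2 : b * h = h * b := by
      have h3 : h * b = kk⁻¹ * (g * (kk * b * kk⁻¹)) * kk := by rw [hh]; group
      rw [h3, h1, hh]
      group
    apply Subtype.ext
    change toSL (reKer e ⟨b, hb2⟩) * toSL (reKer e ⟨h, hh2⟩) = toSL (reKer e ⟨h, hh2⟩) * toSL (reKer e ⟨b, hb2⟩)
    rw [← map_mul, ← map_mul, ← map_mul, ← map_mul]
    congr 2
    exact Subtype.ext h2
  obtain ⟨c, hcn, hcq, hc'⟩ := (mem_center_SU_iff hF hn _).1 hcen
  have h3 : toSL (reKer e ⟨h, hh2⟩) ∈ center (SpecialLinearGroup (Fin (2 * m + r)) K) := by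
    rw [Matrix.SpecialLinearGroup.mem_center_iff]
    refine ⟨c, by rw [Fintype.card_fin]; exact hcn, ?_⟩
    have h2 := congrArg (fun X : Cfsg.SU (2 * m + r) K q => ((X : SpecialLinearGroup (Fin (2 * m + r)) K) : Matrix (Fin (2 * m + r)) (Fin (2 * m + r)) K)) hc'
    exact h2.symm
  rw [toSL_mem_center, reKer_scalar] at h3
  obtain ⟨d, hd⟩ := h3
  refine ⟨d, ?_⟩
  have h4 : h = sc d := hd
  have h5 : g = kk * h * kk⁻¹ := by rw [hh]; group
  rw [h5, h4, ← sc_comm, mul_inv_cancel_right]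

/-! ### The antidiagonal form -/

/-- the form of the antidiagonal model -/
def BJ (τ : K →+* K) (u v : Fin n → K) : K := ∑ k, τ (u k.rev) * v k

theorem vecMul_sh (τ : K →+* K) (A : Matrix (Fin n) (Fin n) K) (u : Fin n → K) :
    Matrix.vecMul (fun k => τ (u k.rev)) (sh τ A) = fun k => τ ((A.mulVec u) k.rev) := by
  funext j
  rw [Matrix.vecMul, Matrix.mulVec, dotProduct, dotProduct, map_sum, ← Equiv.sum_comp Fin.revPerm]
  refine Finset.sum_congr rfl fun k _ => ?_
  rw [sh_apply, map_mul, Fin.revPerm_apply, Fin.rev_rev, mul_comm]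

theorem mem_GUJ_iff (τ : K →+* K) (A : Matrix.GeneralLinearGroup (Fin n) K) :
    A ∈ GUJ n τ ↔ ∀ u v, BJ τ ((A : Matrix (Fin n) (Fin n) K).mulVec u) ((A : Matrix (Fin n) (Fin n) K).mulVec v) = BJ τ u v := by
  have key : ∀ u v, BJ τ ((A : Matrix (Fin n) (Fin n) K).mulVec u) ((A : Matrix (Fin n) (Fin n) K).mulVec v) =
      (fun k => τ (u k.rev)) ⬝ᵥ ((sh τ (A : Matrix (Fin n) (Fin n) K) * (A : Matrix (Fin n) (Fin n) K)).mulVec v) := by
    intro u v
    rw [← Matrix.mulVec_mulVec, Matrix.dotProduct_mulVec, vecMul_sh]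
    rfl
  rw [mem_GUJ']
  constructor
  · intro h u v
    rw [key, h, Matrix.one_mulVec]
    rfl
  · intro h
    apply Matrix.toLin'.injective
    refine LinearMap.ext fun v => funext fun i => ?_
    rw [Matrix.toLin'_apply, Matrix.toLin'_apply, Matrix.one_mulVec]
    have h1 := h (Pi.single i.rev 1) v
    rw [key] at h1
    have h2 : (fun k : Fin n => τ ((Pi.single i.rev 1 : Fin n → K) k.rev)) = Pi.single i 1 := by
      funext k
      by_cases hk : k = i
      · subst hk; simp
      · have : k.rev ≠ i.rev := fun h => hk (Fin.rev_injective h)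
        rw [Pi.single_eq_of_ne this, Pi.single_eq_of_ne hk, map_zero]
    rw [h2] at h1
    have h3 : BJ τ (Pi.single i.rev 1) v = v i := by
      unfold BJ
      have h4 : ∀ k : Fin n, τ ((Pi.single i.rev 1 : Fin n → K) k.rev) = (Pi.single i 1 : Fin n → K) k :=
        fun k => congrFun h2 k
      rw [Finset.sum_congr rfl fun k _ => by rw [h4 k], Finset.sum_eq_single i]
      · simp
      · intro k _ hk
        rw [Pi.single_eq_of_ne hk, zero_mul]
      · intro h'
        exact absurd (Finset.mem_univ _) h'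
    rw [h3, single_dotProduct, one_mul] at h1
    exact h1

theorem HB_eIx (h : 2 * m + r = n) (hr : r ≤ 1) (u v : Fin n → K) :
    HB hF (Fin m) (Fin r) (u ∘ eIx h hr) (v ∘ eIx h hr) = BJ (frob hF) u v := by
  unfold BJ HB
  rw [← Equiv.sum_comp (eIx h hr), Fintype.sum_sum_type, Fintype.sum_prod_type]
  congr 1
  · refine Finset.sum_congr rfl fun i _ => ?_
    rw [Fin.sum_univ_two, H2]
    simp only [Function.comp]
    rw [eIx_rev, Fin.rev_rev]
  · refine Finset.sum_congr rfl fun j _ => ?_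
    simp only [Function.comp]
    rw [← eIx_rev']

/-- the isomorphism of the models -/
noncomputable def rho (h : 2 * m + r = n) (hr : r ≤ 1) :
    Matrix.GeneralLinearGroup (Fin n) K ≃* ((Ix (Fin m) (Fin r) → K) ≃ₗ[K] (Ix (Fin m) (Fin r) → K)) :=
  glEquiv.trans (cjE (LinearEquiv.funCongrLeft K K (eIx h hr)))

theorem rho_apply (h : 2 * m + r = n) (hr : r ≤ 1) (A : Matrix.GeneralLinearGroup (Fin n) K) (w : Ix (Fin m) (Fin r) → K) :
    rho h hr A w = (A : Matrix (Fin n) (Fin n) K).mulVec (w ∘ (eIx h hr).symm) ∘ eIx h hr := rfl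

theorem rho_mem_gI (h : 2 * m + r = n) (hr : r ≤ 1) (A : Matrix.GeneralLinearGroup (Fin n) K) :
    rho h hr A ∈ gI hF (Fin m) (Fin r) ↔ A ∈ GUJ n (frob hF) := by
  rw [mem_GUJ_iff, mem_gI]
  constructor
  · intro hA u v
    have h1 := hA (u ∘ eIx h hr) (v ∘ eIx h hr)
    rw [rho_apply, rho_apply, HB_eIx, HB_eIx] at h1
    have e1 : ∀ w : Fin n → K, (w ∘ eIx h hr) ∘ (eIx h hr).symm = w := by
      intro w; funext k; simp
    rw [e1, e1] at h1
    exact h1
  · intro hA u v
    rw [rho_apply, rho_apply, HB_eIx, hA, ← HB_eIx hF h hr]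
    have e1 : ∀ w : Ix (Fin m) (Fin r) → K, (w ∘ (eIx h hr).symm) ∘ eIx h hr = w := by
      intro w; funext k; simp
    rw [e1, e1]

theorem det_rho (h : 2 * m + r = n) (hr : r ≤ 1) (A : Matrix.GeneralLinearGroup (Fin n) K) :
    ((LinearEquiv.det (rho h hr A) : Kˣ) : K) = (A : Matrix (Fin n) (Fin n) K).det := by
  rw [LinearEquiv.coe_det]
  have h1 := LinearMap.det_conj (glEquiv A).toLinearMap (LinearEquiv.funCongrLeft K K (eIx h hr))
  have h2 : LinearMap.det (glEquiv A).toLinearMap = (A : Matrix (Fin n) (Fin n) K).det := by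
    have : (glEquiv A).toLinearMap = Matrix.toLin' (A : Matrix (Fin n) (Fin n) K) := rfl
    rw [this, LinearMap.det_toLin']
  rw [h2] at h1
  exact h1

theorem rho_mem_XX (h : 2 * m + r = n) (hr : r ≤ 1) (A : Matrix.GeneralLinearGroup (Fin n) K) :
    rho h hr A ∈ XX hF m r ↔ A ∈ SUJ n (frob hF) := by
  rw [mem_SUJ, ← rho_mem_gI hF h hr, ← det_rho h hr]
  constructor
  · intro hA
    exact ⟨hA.1, by rw [show LinearEquiv.det (rho h hr A) = 1 from hA.2, Units.val_one]⟩
  · intro hA
    exact ⟨hA.1, Units.ext (by rw [hA.2, Units.val_one])⟩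

/-- the tori correspond -/
theorem rho_mem_Th (h : 2 * m + r = n) (hr : r ≤ 1) {A : Matrix.GeneralLinearGroup (Fin n) K} (hA : A ∈ SUJ n (frob hF)) :
    rho h hr A ∈ Th K q m r ↔ A ∈ Dia n K := by
  constructor
  · rintro ⟨x, y, -, hx, -⟩
    rw [mem_Dia]
    intro i j hij
    have h1 : (A : Matrix (Fin n) (Fin n) K).mulVec (Pi.single j 1) i = (A : Matrix (Fin n) (Fin n) K) i j := by
      rw [Matrix.mulVec_single_one]; rfl
    rw [← h1]
    have h2 : (A : Matrix (Fin n) (Fin n) K).mulVec (Pi.single j 1) i =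
        rho h hr A (Pi.single ((eIx h hr).symm j) 1) ((eIx h hr).symm i) := by
      rw [rho_apply]
      have : (Pi.single ((eIx h hr).symm j) 1 : Ix (Fin m) (Fin r) → K) ∘ (eIx h hr).symm = Pi.single j 1 := by
        funext k
        by_cases hk : k = j
        · subst hk; simp
        · have : (eIx h hr).symm k ≠ (eIx h hr).symm j := fun h => hk ((eIx _ _).symm.injective h)
          rw [Function.comp, Pi.single_eq_of_ne this, Pi.single_eq_of_ne hk]
      rw [this, Function.comp, Equiv.apply_symm_apply]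
    rw [h2, hx]
    have hne : (eIx h hr).symm i ≠ (eIx h hr).symm j := fun h => hij ((eIx _ _).symm.injective h)
    generalize (eIx h hr).symm i = o at hne ⊢
    generalize (eIx h hr).symm j = o' at hne ⊢
    rcases o with (⟨a, k⟩ | b)
    · rw [J_inl]
      change tor q (x a) _ k = 0
      rw [tor_apply, dg_apply, Pi.single_eq_of_ne hne, mul_zero]
    · rw [J_inr, Pi.single_eq_of_ne hne, mul_zero]
  · intro hD
    rw [mem_Dia] at hD
    have hdet : LinearEquiv.det (rho h hr A) = 1 := ((rho_mem_XX hF h hr A).2 hA).2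
    -- the diagonal entries
    have hmul : ∀ (v : Fin n → K) (i : Fin n), (A : Matrix (Fin n) (Fin n) K).mulVec v i = (A : Matrix (Fin n) (Fin n) K) i i * v i := by
      intro v i
      rw [Matrix.mulVec, dotProduct, Finset.sum_eq_single i]
      · intro b _ hb
        rw [hD i b (Ne.symm hb), zero_mul]
      · intro h'
        exact absurd (Finset.mem_univ _) h'
    have hrel : ∀ i : Fin n, frob hF ((A : Matrix (Fin n) (Fin n) K) i.rev i.rev) * (A : Matrix (Fin n) (Fin n) K) i i = 1 := by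
      intro i
      have h1 := (mem_GUJ_iff (frob hF) A).1 ((mem_SUJ).1 hA).1 (Pi.single i.rev 1) (Pi.single i 1)
      unfold BJ at h1
      rw [Finset.sum_eq_single i, Finset.sum_eq_single i] at h1
      · simpa [hmul] using h1
      · intro b _ hb
        rw [Pi.single_eq_of_ne hb, mul_zero]
      · intro h'
        exact absurd (Finset.mem_univ _) h'
      · intro b _ hb
        rw [hmul _ b, Pi.single_eq_of_ne hb, mul_zero, mul_zero]
      · intro h'
        exact absurd (Finset.mem_univ _) h'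
    have hne : ∀ i : Fin n, (A : Matrix (Fin n) (Fin n) K) i i ≠ 0 := by
      intro i h0
      have := hrel i
      rw [h0, mul_zero] at this
      exact zero_ne_one this
    let d : Fin n → Kˣ := fun i => Units.mk0 _ (hne i)
    have hd : ∀ i, (d i : K) = (A : Matrix (Fin n) (Fin n) K) i i := fun i => rfl
    have hd1 : ∀ i : Fin n, d i = (d i.rev ^ q)⁻¹ := by
      intro i
      rw [eq_inv_iff_mul_eq_one]
      apply Units.ext
      rw [Units.val_mul, Units.val_pow_eq_pow_val, Units.val_one, ← frob_apply hF, hd, hd, mul_comm]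
      exact hrel i
    refine ⟨fun i => d (eIx h hr (Sum.inl (i, 0))), fun j => d (eIx h hr (Sum.inr j)), fun j => ?_, ?_, hdet⟩
    · have h1 := hd1 (eIx h hr (Sum.inr j))
      rw [← eIx_rev' h hr j, eq_inv_iff_mul_eq_one, ← pow_succ'] at h1
      exact h1
    · apply LinearEquiv.ext
      intro w
      funext o
      rw [rho_apply, Function.comp, hmul, Function.comp, Equiv.symm_apply_apply]
      rcases o with (⟨a, k⟩ | b)
      · rw [J_inl]
        change _ = tor q (d (eIx h hr (Sum.inl (a, 0)))) _ k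
        rw [tor_apply, dg_apply]
        congr 1
        fin_cases k
        · rfl
        · change _ = (((d (eIx h hr (Sum.inl (a, 0))) ^ q)⁻¹ : Kˣ) : K)
          have h1 := hd1 (eIx h hr (Sum.inl (a, 1)))
          rw [eIx_rev h hr a, Fin.rev_rev] at h1
          rw [← h1, ← eIx_rev h hr a, hd]
          rfl
      · rw [J_inr]
        rfl

include hF in
/-- **`Frames` and `RealOnT` for the unitary groups**, antidiagonal model. -/
theorem real_psu (hq : Odd q) (hn : 3 ≤ n) (hn4 : n ≠ 4) (τ : K →+* K) (hτ : ∀ x, τ x = x ^ q) {S : Type*} [Group S]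
    [Finite S] (π : ↥(SUJ n τ) →* S) (hπ : Function.Surjective π) (hker : π.ker = center ↥(SUJ n τ)) :
    ∃ 𝓜 : Set (Subgroup S), Frames (TS π) 𝓜 ∧ RealOnT (US π) (TS π) 𝓜 := by
  have two : (2 : K) ≠ 0 := two_of_odd (by rw [hF]; exact hq.pow)
  obtain rfl : τ = frob hF := RingHom.ext fun x => by rw [hτ, frob_apply]
  set m := n / 2 with hm
  set r := n % 2 with hr'
  have h : 2 * m + r = n := by omega
  have hr : r ≤ 1 := by omega
  have hmr : r = 1 ∨ (r = 0 ∧ 3 ≤ m) := by omega
  have hmem : ∀ g : ↥(XX hF m r), (rho h hr).symm (g : (Ix (Fin m) (Fin r) → K) ≃ₗ[K] (Ix (Fin m) (Fin r) → K)) ∈ SUJ n (frob hF) := by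
    intro g
    rw [← rho_mem_XX hF h hr, MulEquiv.apply_symm_apply]
    exact g.2
  let ψ0 : ↥(XX hF m r) →* ↥(SUJ n (frob hF)) :=
    ((rho h hr).symm.toMonoidHom.comp (XX hF m r).subtype).codRestrict (SUJ n (frob hF)) hmem
  let ψ : ↥(XX hF m r) →* S := π.comp ψ0
  have hψ0 : Function.Surjective ψ0 := by
    rintro ⟨A, hA⟩
    refine ⟨⟨rho h hr A, (rho_mem_XX hF h hr A).2 hA⟩, Subtype.ext ?_⟩
    exact (rho h hr).symm_apply_apply A
  have hψ : Function.Surjective ψ := hπ.comp hψ0
  have hkerψ : ∀ g : ↥(XX hF m r), ψ g = 1 → ∃ c : Kˣ, (g : (Ix (Fin m) (Fin r) → K) ≃ₗ[K] (Ix (Fin m) (Fin r) → K)) = sc c := by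
    intro g hg
    have h1 : ψ0 g ∈ center ↥(SUJ n (frob hF)) := by
      rw [← hker]
      exact hg
    refine central_scalar hF two hr (by omega) g.2 fun x hx => ?_
    have h2 := (mem_center_iff.1 h1) (ψ0 ⟨x, hx⟩)
    have h3 : (rho h hr).symm x * (rho h hr).symm (g : (Ix (Fin m) (Fin r) → K) ≃ₗ[K] (Ix (Fin m) (Fin r) → K)) =
        (rho h hr).symm (g : (Ix (Fin m) (Fin r) → K) ≃ₗ[K] (Ix (Fin m) (Fin r) → K)) * (rho h hr).symm x := congrArg Subtype.val h2
    rw [← map_mul, ← map_mul] at h3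
    exact ((rho h hr).symm.injective h3).symm
  have hT : Tb hF ψ = TS π := by
    ext z
    rw [mem_Tb]
    constructor
    · rintro ⟨t, ht, rfl⟩
      refine ⟨ψ0 ⟨t, Th_le hF ht⟩, ?_, rfl⟩
      change (rho h hr).symm t ∈ Dia n K
      rw [← rho_mem_Th hF h hr (hmem ⟨t, Th_le hF ht⟩)]
      change rho h hr ((rho h hr).symm t) ∈ Th K q m r
      rw [MulEquiv.apply_symm_apply]
      exact ht
    · rintro ⟨⟨A, hA⟩, hD, rfl⟩
      have hD' : A ∈ Dia n K := hD
      refine ⟨rho h hr A, (rho_mem_Th hF h hr hA).2 hD', ?_⟩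
      change π _ = π _
      congr 1
      exact Subtype.ext ((rho h hr).symm_apply_apply A)
  obtain ⟨h1, h2⟩ := frames_real (hF := hF) (ψ := ψ) (U := US π) two (by omega) hmr hψ hkerψ
  rw [hT] at h1 h2
  exact ⟨_, h1, h2⟩

end Cfsg.Agent.H158.Sd
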